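import Mathlib
import Cfsg.Agent.Lib.Classical.SympRegGen

set_option autoImplicit false

/-!
Full transvection groups at a spanning set which is connected by non-orthogonality generate the
symplectic group, if the field has more than two elements.
-/

namespace CfsgLib.TwoGen

open Matrix Cfsg CfsgLib.Classical.SympTrans CfsgLib.Classical.SympRegGen

variable {F : Type*} [Field F] {m : ℕ} {H : Subgroup (Matrix.symplecticGroup (Fin m) F)}
  {x y z : Fin m ⊕ Fin m → F}

theorem sv_plane (hxy : sympForm m F x y ≠ 0) (hx : SV H x) (hy : SV H y) (a b : F) :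
    SV H (a • x + b • y) := by
  by_cases ha : a = 0
  · rw [ha, zero_smul, zero_add]; exact sv_smul hy b
  · have h := sv_smul (sv_conj (hy (b / a / sympForm m F x y)) hx) a
    rw [app_T, div_mul_cancel₀ _ hxy, smul_add, smul_smul, mul_div_cancel₀ _ ha] at h
    exact h

theorem sv_pair (hxy : sympForm m F x y = 0) (hx : SV H x) (hy : SV H y) (hz : SV H z)
    (hxz : sympForm m F x z ≠ 0) (hyz : sympForm m F y z ≠ 0) {a b : F}
    (h : a * sympForm m F x z + b * sympForm m F y z ≠ 0) : SV H (a • x + b • y) := by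
  have h1 : SV H ((1 : F) • x + b • z) := sv_plane hxz hx hz 1 b
  have h2 : SV H ((1 : F) • y + (-a) • z) := sv_plane hyz hy hz 1 (-a)
  have h3 : sympForm m F ((1 : F) • x + b • z) ((1 : F) • y + (-a) • z) ≠ 0 := by
    rw [f_add_left, f_add_right, f_add_right]
    simp only [f_smul_left, f_smul_right, f_self, hxy, f_swap y z]
    exact fun e => h (by linear_combination -e)
  convert sv_plane h3 h1 h2 a b using 1
  module

/-- A common partner. -/
def Reach (H : Subgroup (Matrix.symplecticGroup (Fin m) F)) (x y : Fin m ⊕ Fin m → F) : Prop :=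
  sympForm m F x y ≠ 0 ∨ ∃ z, SV H z ∧ sympForm m F x z ≠ 0 ∧ sympForm m F z y ≠ 0

theorem Reach.step {w : Fin m ⊕ Fin m → F} (h : Reach H x y) (hy : SV H y) (hyw : sympForm m F y w ≠ 0) :
    Reach H x w := by
  by_cases hxy : sympForm m F x y = 0
  · obtain ⟨z, hz, hxz, hzy⟩ := h.resolve_left (not_not.2 hxy)
    by_cases hzw : sympForm m F z w = 0
    · refine Or.inr ⟨(1 : F) • z + (1 : F) • y, sv_plane hzy hz hy 1 1, ?_, ?_⟩
      · simpa [f_add_right, f_smul_right, hxy] using hxz
      · simpa [f_add_left, f_smul_left, hzw] using hyw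
    · exact Or.inr ⟨z, hz, hxz, hzw⟩
  · exact Or.inr ⟨y, hy, hxy, hyw⟩

theorem eq_top_of_connected (hq : ∃ t : F, t ≠ 0 ∧ t ≠ 1) (Γ : Set (Fin m ⊕ Fin m → F))
    (hΓ : ∀ v ∈ Γ, SV H v) (hspan : Submodule.span F Γ = ⊤)
    (hcon : ∀ x ∈ Γ, ∀ y ∈ Γ, Relation.ReflTransGen
      (fun a b => a ∈ Γ ∧ b ∈ Γ ∧ sympForm m F a b ≠ 0) x y) : H = ⊤ := by
  obtain ⟨t, ht0, ht1⟩ := hq
  have hne : ∀ x : Fin m ⊕ Fin m → F, x ≠ 0 → ∃ g ∈ Γ, sympForm m F x g ≠ 0 := by
    intro x hx
    by_contra h
    push_neg at h
    refine hx (eq_zero_of_f x fun v => ?_)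
    induction (hspan.ge (Submodule.mem_top (x := v))) using Submodule.span_induction with
    | mem w hw => exact h w hw
    | zero => exact f_zero_right x
    | add u v _ _ hu hv => rw [f_add_right, hu, hv, add_zero]
    | smul a u _ hu => rw [f_smul_right, hu, mul_zero]
  have key : ∀ x y : Fin m ⊕ Fin m → F, SV H x → SV H y → SV H (x + y) := by
    intro x y hx hy
    rcases eq_or_ne x 0 with rfl | hx0
    · rwa [zero_add]
    rcases eq_or_ne y 0 with rfl | hy0
    · rwa [add_zero]
    by_cases hxy : sympForm m F x y = 0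
    swap
    · simpa using sv_plane hxy hx hy 1 1
    obtain ⟨g, hg, hxg⟩ := hne x hx0
    obtain ⟨g', hg', hyg⟩ := hne y hy0
    have hr : ∀ b, Relation.ReflTransGen (fun a b => a ∈ Γ ∧ b ∈ Γ ∧ sympForm m F a b ≠ 0) g b →
        Reach H x b := by
      intro b hb
      induction hb with
      | refl => exact Or.inl hxg
      | tail _ h ih => exact ih.step (hΓ _ h.1) h.2.2
    obtain ⟨z, hz, hxz, hzy⟩ := ((hr g' (hcon g hg g' hg')).step (hΓ g' hg')
      (by rwa [f_swap, neg_ne_zero])).resolve_left (not_not.2 hxy)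
    have hyz : sympForm m F y z ≠ 0 := by rwa [f_swap, neg_ne_zero]
    by_cases hw : sympForm m F x z + sympForm m F y z = 0
    swap
    · simpa using sv_pair (a := 1) (b := 1) hxy hx hy hz hxz hyz (by simpa using hw)
    rcases eq_or_ne (x + y) 0 with e | e
    · rw [e]; exact sv_zero
    obtain ⟨z', hz', hwz⟩ := hne _ e
    rw [f_add_left] at hwz
    by_cases hyz' : sympForm m F y z' = 0
    · rw [hyz', add_zero] at hwz
      have h1 : SV H ((1 : F) • x + t • y) := sv_pair hxy hx hy hz hxz hyz fun e' => by
        have : (t - 1) * sympForm m F y z = 0 := by linear_combination e' - hw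
        rcases mul_eq_zero.1 this with h | h
        · exact ht1 (sub_eq_zero.1 h)
        · exact hyz h
      have e2 : x + y = (1 - t⁻¹) • x + t⁻¹ • ((1 : F) • x + t • y) := by
        rw [smul_add, smul_smul, smul_smul, inv_mul_cancel₀ ht0]
        module
      rw [e2]
      refine sv_pair ?_ hx h1 (hΓ z' hz') hwz ?_ ?_
      · rw [f_add_right, f_smul_right, f_smul_right, f_self, hxy]; ring
      · rw [f_add_left, f_smul_left, f_smul_left, hyz', mul_zero, add_zero, one_mul]; exact hwz
      · rw [f_add_left, f_smul_left, f_smul_left, hyz', mul_zero, add_zero, one_mul, ← add_mul,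
          sub_add_cancel, one_mul]
        exact hwz
    by_cases hxz' : sympForm m F x z' = 0
    · rw [hxz', zero_add] at hwz
      have h1 : SV H (t • x + (1 : F) • y) := sv_pair hxy hx hy hz hxz hyz fun e' => by
        have : (t - 1) * sympForm m F x z = 0 := by linear_combination e' - hw
        rcases mul_eq_zero.1 this with h | h
        · exact ht1 (sub_eq_zero.1 h)
        · exact hxz h
      have e2 : x + y = (1 - t⁻¹) • y + t⁻¹ • (t • x + (1 : F) • y) := by
        rw [smul_add, smul_smul, smul_smul, inv_mul_cancel₀ ht0]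
        module
      rw [e2]
      refine sv_pair ?_ hy h1 (hΓ z' hz') hwz ?_ ?_
      · rw [f_add_right, f_smul_right, f_smul_right, f_self, f_swap, hxy]; ring
      · rw [f_add_left, f_smul_left, f_smul_left, hxz', mul_zero, zero_add, one_mul]; exact hwz
      · rw [f_add_left, f_smul_left, f_smul_left, hxz', mul_zero, zero_add, one_mul, ← add_mul,
          sub_add_cancel, one_mul]
        exact hwz
    simpa using sv_pair (a := 1) (b := 1) hxy hx hy (hΓ z' hz') hxz' hyz' (by simpa using hwz)
  have hall : ∀ v, SV H v := fun v => by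
    induction (hspan.ge (Submodule.mem_top (x := v))) using Submodule.span_induction with
    | mem w hw => exact hΓ w hw
    | zero => exact sv_zero
    | add u v _ _ hu hv => exact key u v hu hv
    | smul a u _ hu => exact sv_smul hu a
  exact eq_top_of_basis (fun k _ => hall _) (fun k _ => hall _) fun k _ => hall _

end CfsgLib.TwoGen
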