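import Cfsg.Agent.Lib.Classical.TwoGen.OrthGens

set_option autoImplicit false
set_option linter.unusedSectionVars false

/-!
The seed, the shift and the scaling generate `El`.
-/

namespace CfsgLib.TwoGen.Ort

open CfsgLib.Orth

variable {F : Type*} [Field F] [Fintype F] {ι : Type} [Fintype ι] [DecidableEq ι]
variable {Q : QuadraticForm F (ι → F)} {N : ℕ} (Φ : Fr Q N) {H : Subgroup (Grp Q)}

local notation "B" => QuadraticMap.polar (DFunLike.coe Q)
local notation "M₀" => ((N + 3 : ℕ) : ZMod (2 * (N + 3)))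
local notation "V" => fun n : ℕ => Φ.v (n : ZMod (2 * (N + 3)))

/-- What the two generators provide inside `H`. -/
structure Seed (H : Subgroup (Grp Q)) where
  μ : Fˣ
  gen : ∀ t : Fˣ, t ∈ Subgroup.zpowers μ
  g : Grp Q
  gH : g ∈ H
  shift : ∀ k, ∃ c : F, c ≠ 0 ∧ ap g (Φ.v k) = c • Φ.v (k + 1)
  exact' : ∀ i < N + 2, ap g (V i) = V (i + 1) ∧ ap g (V (i + (N + 3))) = V (i + 1 + (N + 3))
  refl : ∀ z, (∀ i, B (Φ.v i) z = 0) → ap g z = z - (B z Φ.u / Q Φ.u) • Φ.u
  seed : Mem H (V 0) (V (N + 4) + Φ.w)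
  h : Grp Q
  hH : h ∈ H
  h2 : ap h (V 2) = ((μ : F) * μ) • V 2
  hfix : ∀ z, B z (V 2) = 0 → B z (V (N + 5)) = 0 → ap h z = z

/-- Every multiple of the root at step `j` is present. -/
def Edge (H : Subgroup (Grp Q)) (j : ZMod (2 * (N + 3))) : Prop :=
  ∀ (k : ZMod (2 * (N + 3))) (t : F), Mem H (Φ.v k) (t • Φ.v (k + j + M₀))

variable {Φ} (S : Seed Φ H) (hB : Nondeg Q)
include S hB

theorem Seed.scal {x : ι → F} (hx : Mem H (V 0) x) (t : F) : Mem H (V 0) (t • x) := by
  set ν : F := (S.μ : F) * S.μ with hν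
  have hν0 : ν ≠ 0 := mul_ne_zero S.μ.ne_zero S.μ.ne_zero
  set h₀ := S.g⁻¹ * (S.g⁻¹ * S.h * S.g) * S.g
  have hh₀ : h₀ ∈ H :=
    mul_mem (mul_mem (inv_mem S.gH) (mul_mem (mul_mem (inv_mem S.gH) S.hH) S.gH)) S.gH
  have hap : ∀ z, ap h₀ z = ap S.g⁻¹ (ap S.g⁻¹ (ap S.h (ap S.g (ap S.g z)))) := fun z => by
    simp only [h₀, ap_mul]
  have g0 : ap S.g (ap S.g (V 0)) = V 2 := by
    rw [(S.exact' 0 (by omega)).1, (S.exact' 1 (by omega)).1]
  have gM : ap S.g (ap S.g (V (N + 3))) = V (N + 5) := by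
    have h1 := (S.exact' 0 (by omega)).2
    have h2 := (S.exact' 1 (by omega)).2
    simp only [Nat.zero_add] at h1
    rw [h1, h2]
    simp only [show 1 + 1 + (N + 3) = N + 5 by omega]
  have hfix : ∀ z, B z (V 0) = 0 → B z (V (N + 3)) = 0 → ap h₀ z = z := fun z a b => by
    rw [hap, S.hfix, ap_inv_ap, ap_inv_ap]
    · rw [← g0, ap_b, ap_b, a]
    · rw [← gM, ap_b, ap_b, b]
  have h0 : ap h₀ (V 0) = ν • V 0 := by
    rw [hap, g0, S.h2, ← g0, ap_smul, ap_inv_ap, ap_smul, ap_inv_ap]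
  have step : ∀ y, Mem H (V 0) y → Mem H (V 0) (ν • y) := by
    intro y hy
    have hy0 : Mem H (V 0) (y - B y (V (N + 3)) • V 0) := by
      rw [sub_eq_add_neg, ← neg_smul]; exact hy.self_add _
    have h1 := hy0.conj hh₀
    rw [h0, hfix _ (by rw [b_comm]; exact hy0.orth)
      (by rw [b_sub_left, b_smul_left, Φ.bv_one (by omega), mul_one, sub_self])] at h1
    have h2 := (h1.smul' hB hν0).self_add (ν * B y (V (N + 3)))
    rwa [smul_sub, smul_smul, sub_add_cancel] at h2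
  have hpow : ∀ k : ℕ, Mem H (V 0) ((ν ^ k) • x) := by
    intro k
    induction k with
    | zero => rwa [pow_zero, one_smul]
    | succ k ih => rw [pow_succ', mul_smul]; exact step _ ih
  have hsq : ∀ s : F, Mem H (V 0) ((s * s) • x) := by
    intro s
    rcases eq_or_ne s 0 with rfl | hs
    · rw [mul_zero, zero_smul]; exact Mem.zero (Φ.qv _)
    obtain ⟨k, hk⟩ := (Submonoid.mem_powers_iff _ _).1
      (mem_powers_iff_mem_zpowers.2 (S.gen (Units.mk0 s hs)))
    have hk' : (S.μ : F) ^ k = s := by rw [← Units.val_pow_eq_pow_val, hk, Units.val_mk0]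
    have := hpow k
    rwa [hν, mul_pow, hk'] at this
  by_cases h2 : (2 : F) = 0
  · have : CharP F 2 := CharTwo.of_one_ne_zero_of_two_eq_zero one_ne_zero h2
    obtain ⟨s, hs⟩ := FiniteField.isSquare_of_char_two (ringChar.eq F 2) t
    rw [hs]; exact hsq s
  · have e : t = ((t + 1) / 2) * ((t + 1) / 2) - ((t - 1) / 2) * ((t - 1) / 2) := by
      field_simp; ring
    rw [e, sub_smul]
    exact (hsq _).sub hB (hsq _)

theorem Seed.iterate (n : ℕ) (k : ZMod (2 * (N + 3))) :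
    ∃ c : F, c ≠ 0 ∧ ap (S.g ^ n) (Φ.v k) = c • Φ.v (k + (n : ℕ)) := by
  induction n with
  | zero => exact ⟨1, one_ne_zero, by rw [pow_zero, ap_one, one_smul, Nat.cast_zero, add_zero]⟩
  | succ n ih =>
    obtain ⟨c, hc, h⟩ := ih
    obtain ⟨c', hc', h'⟩ := S.shift (k + (n : ℕ))
    exact ⟨c * c', mul_ne_zero hc hc', by
      rw [pow_succ', ap_mul, h, ap_smul, h', smul_smul, Nat.cast_succ, add_assoc]⟩

theorem Seed.edge_of {j : ZMod (2 * (N + 3))} (h : Mem H (V 0) (Φ.v (j + M₀))) : Edge Φ H j := by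
  intro k t
  obtain ⟨c, hc, h1⟩ := S.iterate hB k.val ((0 : ℕ) : ZMod _)
  obtain ⟨d, hd, h2⟩ := S.iterate hB k.val (j + M₀)
  have h3 := (S.scal hB h (t / (c * d))).conj (pow_mem S.gH k.val)
  rw [ap_smul] at h3
  simp only [ZMod.natCast_zmod_val, Nat.cast_zero, zero_add] at h1 h2
  simp only [Nat.cast_zero] at h3
  rw [h1, h2] at h3
  have h4 := h3.smul' hB hc
  rw [smul_smul, smul_smul, mul_assoc, div_mul_eq_mul_div, mul_comm t d, ← mul_div_assoc,
    ← mul_assoc, mul_div_cancel_left₀ _ (mul_ne_zero hc hd), add_comm (j + M₀) k, ← add_assoc] at h4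
  exact h4

theorem Seed.edge_neg {j : ZMod (2 * (N + 3))} (h : Edge Φ H j) : Edge Φ H (-j) := by
  intro k t
  rcases eq_or_ne t 0 with rfl | ht
  · rw [zero_smul]; exact Mem.zero (Φ.qv _)
  have h1 := h (k - j - M₀ - M₀ + M₀) (-t)
  rw [show k - j - M₀ - M₀ + M₀ + j + M₀ = k by ring] at h1
  have h2 := (h1.swap (by rw [q_smul, Φ.qv, mul_zero])).smul' hB (neg_ne_zero.2 ht)
  rwa [neg_smul, ← smul_neg, neg_neg,
    show k - j - M₀ - M₀ + M₀ = k + -j + M₀ by linear_combination -(Fr.mm (N := N))] at h2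

theorem Seed.edge_comp {i j : ZMod (2 * (N + 3))} (hi : Edge Φ H i) (hj : Edge Φ H j)
    (h1 : i ≠ M₀) (h2 : j ≠ M₀) (h3 : i + j ≠ 0) : Edge Φ H (i + j) := by
  refine S.edge_of hB ?_
  have a := hi ((0 : ℕ) : ZMod _) 1
  obtain ⟨g', hg', hS⟩ := hj i 1
  have hfix : ap g' (V 0) = V 0 := by
    refine siegel_fix hS ?_ ?_
    · rw [Φ.bv, if_neg]
      simpa using h1
    · rw [b_smul_right, Φ.bv, if_neg, mul_zero]
      simp only [Nat.cast_zero, zero_add, add_eq_right]
      exact h3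
  have h4 := (a.act hg' hfix).sub hB a
  have hm := Fr.mm (N := N)
  have e1 : B (Φ.v (i + M₀)) (Φ.v i) = 1 := by
    rw [Φ.bv, if_pos (by rw [add_assoc, hm, add_zero])]
  have e2 : B (Φ.v (i + M₀)) (Φ.v (i + j + M₀)) = 0 := by
    rw [Φ.bv, if_neg]
    intro e
    exact h2 (by linear_combination e)
  simp only [Nat.cast_zero, one_smul, zero_add] at h4
  rw [siegel_ap hS] at h4
  simp only [one_smul, e1, e2, Φ.qv, mul_zero, zero_mul, zero_smul, sub_zero, add_sub_cancel_left] at h4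
  simpa using h4

theorem Seed.g_w : ap S.g Φ.w = Φ.w' ∧ ap S.g Φ.w' = Φ.w :=
  ⟨S.refl _ Φ.bw, by rw [S.refl _ Φ.bw', Φ.w'']⟩

theorem Seed.top : El Q ≤ H := by
  have hm := Fr.mm (N := N)
  obtain ⟨gw, gw'⟩ := S.g_w hB
  have a0 := S.seed
  have m1 : Mem H (V 1) (V (N + 5) + Φ.w') := by
    have h := a0.conj S.gH
    have h1 := (S.exact' 1 (by omega)).2
    simp only [show 1 + (N + 3) = N + 4 by omega, show 1 + 1 + (N + 3) = N + 5 by omega] at h1
    rwa [(S.exact' 0 (by omega)).1, ap_add, gw, h1] at h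
  obtain ⟨κ, -, hκ⟩ := S.shift ((N + 5 : ℕ) : ZMod _)
  rw [← Nat.cast_succ] at hκ
  have m2 : Mem H (V 2) (κ • V (N + 6) + Φ.w) := by
    have h := m1.conj S.gH
    rwa [(S.exact' 1 (by omega)).1, ap_add, hκ, gw'] at h
  obtain ⟨g₁, hg₁, hS₁⟩ := m1
  obtain ⟨g₂, hg₂, hS₂⟩ := m2
  have z : ∀ {a b : ℕ}, a ≤ 2 * (N + 3) → b ≤ 2 * (N + 3) → a + (N + 3) ≠ b → b + (N + 3) ≠ a →
      B (V a) (V b) = 0 := fun ha hb h1 h2 => Φ.bv_zero ha hb h1 h2
  have bw : ∀ n : ℕ, B (V n) Φ.w = 0 ∧ B (V n) Φ.w' = 0 ∧ B Φ.w (V n) = 0 ∧ B Φ.w' (V n) = 0 :=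
    fun n => ⟨Φ.bw _, Φ.bw' _, by rw [b_comm, Φ.bw], by rw [b_comm, Φ.bw']⟩
  -- first new parameter
  set d := B Φ.w Φ.w' + Q Φ.w with hd
  have fix₁ : ap g₁ (V 0) = V 0 := siegel_fix hS₁ (z (by omega) (by omega) (by omega) (by omega))
    (by rw [b_add_right, z (by omega) (by omega) (by omega) (by omega), (bw 0).2.1, add_zero])
  have fix₂ : ap g₂ (V 0) = V 0 := siegel_fix hS₂ (z (by omega) (by omega) (by omega) (by omega))
    (by rw [b_add_right, b_smul_right, z (by omega) (by omega) (by omega) (by omega), (bw 0).1,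
      mul_zero, add_zero])
  have p₂ : Mem H (V 0) (V (N + 5) + Φ.w' - d • V 1) := by
    have h := (a0.act hg₁ fix₁).sub hB a0
    have e1 : B (V (N + 4)) (V 1) = 1 := Φ.bv_one (by omega)
    have e2 : B (V (N + 4)) (V (N + 5)) = 0 := z (by omega) (by omega) (by omega) (by omega)
    convert h using 1
    rw [siegel_ap hS₁]
    simp only [b_add_left, b_add_right, q_add, Φ.qv, Φ.q_w', (bw (N + 4)).2.1, (bw (N + 5)).2.2.1,
      (bw (N + 5)).2.1, (bw 1).2.2.1, e1, e2, hd]
    module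
  -- second
  have w₂ : Mem H (V 0) (κ • V (N + 6) + Φ.w - d • V 2) := by
    have h := (p₂.act hg₂ fix₂).sub hB p₂
    have e1 : B (V (N + 5)) (V 2) = 1 := Φ.bv_one (by omega)
    have e2 : B (V (N + 5)) (V (N + 6)) = 0 := z (by omega) (by omega) (by omega) (by omega)
    have e3 : B (V 1) (V 2) = 0 := z (by omega) (by omega) (by omega) (by omega)
    have e4 : B (V 1) (V (N + 6)) = 0 := z (by omega) (by omega) (by omega) (by omega)
    convert h using 1
    rw [siegel_ap hS₂]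
    simp only [b_add_left, b_add_right, b_sub_left, b_smul_left, b_smul_right, q_add, q_smul, Φ.qv,
      (bw (N + 5)).1, (bw (N + 6)).1, (bw 2).2.2.2, (bw (N + 6)).2.2.2, (bw 1).1, e1, e2, e3, e4,
      b_comm Φ.w' Φ.w, hd]
    module
  -- a pure root
  have hpure : Mem H (V 0) (Φ.v ((1 : ℕ) : ZMod _)) := by
    have h := (w₂.act hg₁ fix₁).sub hB w₂
    have e1 : B (V (N + 6)) (V 1) = 0 := z (by omega) (by omega) (by omega) (by omega)
    have e2 : B (V (N + 6)) (V (N + 5)) = 0 := z (by omega) (by omega) (by omega) (by omega)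
    have e3 : B (V 2) (V 1) = 0 := z (by omega) (by omega) (by omega) (by omega)
    have e4 : B (V 2) (V (N + 5)) = 1 := Φ.bv_one (by omega)
    have h' : Mem H (V 0) (Q Φ.w • V 1) := by
      convert h using 1
      rw [siegel_ap hS₁]
      simp only [b_add_left, b_add_right, b_sub_left, b_smul_left, b_smul_right, q_add, Φ.qv,
        Φ.q_w', (bw (N + 6)).2.1, (bw (N + 5)).2.2.1, (bw (N + 5)).2.1, (bw 1).2.2.1, (bw 2).2.1,
        e1, e2, e3, e4, hd]
      module
    have := S.scal hB h' (Q Φ.w)⁻¹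
    rwa [smul_smul, inv_mul_cancel₀ Φ.qw, one_smul] at this
  have E1' : Edge Φ H (1 + M₀) := S.edge_of hB (by
    rw [add_assoc, hm, add_zero]; simpa using hpure)
  have ne : ∀ {a b : ℕ}, a < 2 * (N + 3) → b < 2 * (N + 3) → a ≠ b →
      (a : ZMod (2 * (N + 3))) ≠ b := fun ha hb h e => by
    rw [cast_eq_iff ha.le hb.le] at e; omega
  have hMc : 1 + M₀ = ((N + 4 : ℕ) : ZMod _) := by push_cast; ring
  have E2 : Edge Φ H ((2 : ℕ) : ZMod _) := by
    have h := S.edge_comp hB E1' E1' (by rw [hMc]; exact ne (by omega) (by omega) (by omega))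
      (by rw [hMc]; exact ne (by omega) (by omega) (by omega)) (by
        rw [show 1 + M₀ + (1 + M₀) = ((2 : ℕ) : ZMod _) by linear_combination hm,
          ← Nat.cast_zero]
        exact ne (by omega) (by omega) (by omega))
    rwa [show 1 + M₀ + (1 + M₀) = ((2 : ℕ) : ZMod _) by linear_combination hm] at h
  have hv1 : Mem H (V 0) (d • V 1) := S.scal hB hpure d
  have hq₂ : Mem H (V 0) (V (N + 5)) := by
    have := E2 ((0 : ℕ) : ZMod _) 1
    simp only [one_smul, Nat.cast_zero, zero_add, Nat.cast_zero] at this ⊢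
    convert this using 2
    push_cast; ring
  have hw' : Mem H (V 0) Φ.w' := by
    have := (p₂.add hv1).sub hB hq₂
    rwa [sub_add_cancel, add_sub_cancel_left] at this
  -- the breaker
  have E1 : Edge Φ H 1 := by
    have hE := (S.edge_neg hB E2) ((1 : ℕ) : ZMod _) 1
    rw [show ((1 : ℕ) : ZMod (2 * (N + 3))) + -((2 : ℕ) : ZMod _) + M₀ = ((N + 2 : ℕ) : ZMod _) by
      push_cast; ring, one_smul] at hE
    obtain ⟨g', hg', hS'⟩ := hE
    have hfix : ap g' (V 0) = V 0 := siegel_fix hS' (z (by omega) (by omega) (by omega) (by omega))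
      (z (by omega) (by omega) (by omega) (by omega))
    have h := (a0.act hg' hfix).sub hB a0
    have e1 : B (V (N + 4)) (V 1) = 1 := Φ.bv_one (by omega)
    have e2 : B (V (N + 4)) (V (N + 2)) = 0 := z (by omega) (by omega) (by omega) (by omega)
    have h' : Mem H (V 0) (Φ.v (-1 + M₀)) := by
      convert h using 1
      rw [show -1 + M₀ = ((N + 2 : ℕ) : ZMod _) by push_cast; ring, siegel_ap hS']
      simp only [b_add_left, b_add_right, Φ.qv, (bw 1).2.2.1, (bw (N + 2)).2.2.1, e1, e2]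
      module
    simpa using S.edge_neg hB (S.edge_of hB h')
  have Eall : ∀ n : ℕ, n < 2 * (N + 3) → n ≠ 0 → n ≠ N + 3 → Edge Φ H (n : ZMod _) := by
    intro n
    induction n with
    | zero => intro _ h; exact absurd rfl h
    | succ n ih =>
      intro hn _ hnM
      rcases Nat.eq_zero_or_pos n with rfl | h0
      · simpa using E1
      rcases eq_or_ne n (N + 3) with rfl | hnM'
      · rw [Nat.cast_succ, add_comm]; exact E1'
      · rw [Nat.cast_succ]
        refine S.edge_comp hB (ih (by omega) (by omega) hnM') E1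
          (ne (by omega) (by omega) hnM') ?_ ?_
        · rw [← Nat.cast_one]; exact ne (by omega) (by omega) (by omega)
        · rw [← Nat.cast_succ, ← Nat.cast_zero]; exact ne (by omega) (by omega) (by omega)
  have hv : ∀ k, k ≠ M₀ → ∀ t : F, Mem H (V 0) (t • Φ.v k) := by
    intro k hk t
    rcases eq_or_ne k 0 with rfl | hk0
    · have := (Mem.zero (H := H) (Φ.qv ((0 : ℕ) : ZMod _))).self_add t
      simpa using this
    have hj0 : (k + M₀).val ≠ 0 := fun e => hk (by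
      have e' := (ZMod.val_eq_zero _).1 e
      linear_combination e' - hm)
    have hjM : (k + M₀).val ≠ N + 3 := fun e => hk0 (by
      have e' := (ZMod.natCast_zmod_val (k + M₀)).symm.trans (congrArg (Nat.cast) e)
      linear_combination e')
    have := Eall _ (ZMod.val_lt _) hj0 hjM ((0 : ℕ) : ZMod _) t
    simp only [Nat.cast_zero, zero_add] at this ⊢
    rwa [ZMod.natCast_zmod_val, add_assoc, hm, add_zero] at this
  have hw : Mem H (V 0) Φ.w := by
    have hne : ((N + 4 : ℕ) : ZMod (2 * (N + 3))) ≠ M₀ := ne (by omega) (by omega) (by omega)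
    have := a0.sub hB (hv _ hne 1)
    rwa [one_smul, add_sub_cancel_left] at this
  have hall0 : ∀ x, B (V 0) x = 0 → Mem H (V 0) x := by
    intro x hx
    set xh := ∑ i, B (Φ.v (i + M₀)) x • Φ.v i with hxh
    have hperp : ∀ i, B (Φ.v i) (x - xh) = 0 := by
      intro i
      rw [b_sub_right, hxh,
        show B (Φ.v i) (∑ j, B (Φ.v (j + M₀)) x • Φ.v j) =
            ∑ j, B (Φ.v i) (B (Φ.v (j + M₀)) x • Φ.v j) from
          map_sum (QuadraticMap.polarBilin Q (Φ.v i)) _ _,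
        Finset.sum_eq_single (i + M₀)]
      · rw [b_smul_right, Φ.bv, if_pos rfl, mul_one, add_assoc, hm, add_zero, sub_self]
      · intro j _ hj
        rw [b_smul_right, Φ.bv, if_neg hj, mul_zero]
      · simp
    obtain ⟨α, β, e⟩ := Φ.span _ hperp
    change x - xh = α • Φ.w + β • Φ.w' at e
    rw [sub_eq_iff_eq_add.1 e]
    refine ((S.scal hB hw α).add (S.scal hB hw' β)).add ?_
    have : ∀ s : Finset (ZMod (2 * (N + 3))),
        Mem H (V 0) (∑ i ∈ s, B (Φ.v (i + M₀)) x • Φ.v i) := by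
      intro s
      induction s using Finset.induction_on with
      | empty => rw [Finset.sum_empty]; exact Mem.zero (Φ.qv _)
      | insert i s hi ih =>
        rw [Finset.sum_insert hi]
        refine Mem.add ?_ ih
        by_cases hiM : i = M₀
        · subst hiM
          have h0 : B (Φ.v 0) x = 0 := by simpa using hx
          rw [hm, h0, zero_smul]; exact Mem.zero (Φ.qv _)
        · exact hv i hiM _
    exact this _
  have mem_of : ∀ (u : ι → F), (∀ x, B u x = 0 → Mem H u x) → ∀ y g, IsSiegel u y g → g ∈ H := by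
    intro u hu y g hg
    obtain ⟨g', hg', h'⟩ := hu y hg.2.1
    rwa [siegel_unique hg h']
  refine El_le_of_two hB (u := V 0) (f := V (N + 3)) (Φ.qv _) (Φ.qv _)
    (by rw [Φ.bv_one (by omega)]; exact one_ne_zero) (mem_of _ hall0) (mem_of _ fun x hx => ?_)
  obtain ⟨c, hc, h1⟩ := S.iterate hB (N + 3) ((0 : ℕ) : ZMod _)
  simp only [Nat.cast_zero, zero_add] at h1
  have hy : B (V 0) (ap (S.g ^ (N + 3))⁻¹ (c⁻¹ • x)) = 0 := by
    rw [← ap_b_left, show ap (S.g ^ (N + 3)) (V 0) = c • V (N + 3) by simpa using h1, b_smul_left,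
      b_smul_right, hx, mul_zero, mul_zero]
  have h2 := (hall0 _ hy).conj (pow_mem S.gH (N + 3))
  rw [ap_ap_inv, show ap (S.g ^ (N + 3)) (V 0) = c • V (N + 3) by simpa using h1] at h2
  have h3 := h2.smul' hB hc
  rwa [smul_smul, mul_inv_cancel₀ hc, one_smul] at h3

end CfsgLib.TwoGen.Ort

namespace CfsgLib.TwoGen.Ort

open CfsgLib.Orth

variable {F : Type*} [Field F] [Fintype F] {ι : Type} [Fintype ι] [DecidableEq ι]
variable {Q : QuadraticForm F (ι → F)} {N : ℕ}

/-- Two elements generate the group of Siegel transformations. -/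
theorem two_gen_frame (Φ : Fr Q N) (hB : Nondeg Q) :
    ∃ a ∈ El Q, ∃ b ∈ El Q, ∀ H : Subgroup (Grp Q), a ∈ H → b ∈ H → El Q ≤ H := by
  obtain ⟨a, ha, b, hb, h⟩ := exists_gens Φ hB
  refine ⟨a, ha, b, hb, fun H haH hbH => ?_⟩
  obtain ⟨μ, hμ, g, hg, g1, g2, g3, hx, k, hk, k2, k3⟩ := h H haH hbH
  exact (⟨μ, hμ, g, hg, g1, g2, g3, hx, k, hk, k2, k3⟩ : Seed Φ H).top hB

end CfsgLib.TwoGen.Ort
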