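import Cfsg.Agent.Lib.Classical.TwoGen.OrthBase
import Cfsg.Agent.Lib.Classical.OrthForms

set_option autoImplicit false
set_option linter.unusedSectionVars false

/-!
Two generators of the orthogonal group of plus type over the fields with two and three elements.
-/

namespace CfsgLib.TwoGen.Ort

open CfsgLib.Orth

variable {F : Type*} [Field F] [Fintype F] {ι : Type} [Fintype ι] [DecidableEq ι]
variable {Q : QuadraticForm F (ι → F)}

local notation "B" => QuadraticMap.polar (DFunLike.coe Q)

/-- Over a prime field a parameter gives its whole line. -/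
theorem Mem.line (hB : Nondeg Q) (hp : (Fintype.card F).Prime) {H : Subgroup (Grp Q)}
    {u a : ι → F} {s : F} (hs : s ≠ 0) (h : Mem H u (s • a)) (t : F) : Mem H u (t • a) := by
  let P : AddSubgroup F :=
    { carrier := {r | Mem H u (r • a)}
      zero_mem' := by rw [Set.mem_setOf_eq, zero_smul]; exact Mem.zero h.q
      add_mem' := fun {x y} hx hy => by
        simp only [Set.mem_setOf_eq, add_smul] at *
        exact hx.add hy
      neg_mem' := fun {x} hx => by
        simp only [Set.mem_setOf_eq, neg_smul] at *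
        exact hx.neg hB }
  have : Fact (Nat.card F).Prime := ⟨by rwa [Nat.card_eq_fintype_card]⟩
  rcases P.eq_bot_or_eq_top_of_prime_card with hP | hP
  · exact absurd ((AddSubgroup.eq_bot_iff_forall P).1 hP s h) hs
  · exact (hP ▸ AddSubgroup.mem_top t : t ∈ P)

theorem two_gen_plus_small (hB : Nondeg Q) {M : ℕ} (hM : 4 ≤ M) (hF : Fintype.card F ≤ 3)
    {e f : ℕ → ι → F} (he : ∀ i, Q (e i) = 0) (hf : ∀ i, Q (f i) = 0)
    (hee : ∀ i j, B (e i) (e j) = 0) (hff : ∀ i j, B (f i) (f j) = 0)
    (hef : ∀ i < M, ∀ j < M, B (e i) (f j) = if i = j then 1 else 0)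
    (hspan : ∀ z, ∃ c d : ℕ → F,
      z = (∑ i ∈ Finset.range M, c i • e i) + ∑ i ∈ Finset.range M, d i • f i) :
    ∃ a ∈ El Q, ∃ b ∈ El Q, ∀ H : Subgroup (Grp Q), a ∈ H → b ∈ H → El Q ≤ H := by
  have hp : (Fintype.card F).Prime := by
    have := Fintype.one_lt_card (α := F)
    interval_cases h : Fintype.card F <;> norm_num
  obtain ⟨g, hg, g1, ⟨σ, hσ, g2⟩, ⟨τ, hτ, g3⟩, -, -⟩ :=
    exists_cycle hB (e := e) (f := f) (fun i _ => he i) (fun i _ => hf i) hef (fun i _ j _ => hee i j)
      (fun i _ j _ => hff i j) (M - 1) (by omega)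
  have hfe : ∀ i < M, ∀ j < M, B (f i) (e j) = if i = j then 1 else 0 := fun i hi j hj => by
    rw [b_comm, hef j hj i hi]
    exact if_congr eq_comm rfl rfl
  have z0 : ∀ i < M, ∀ j < M, i ≠ j → B (e i) (f j) = 0 ∧ B (f i) (e j) = 0 := fun i hi j hj h =>
    ⟨by rw [hef i hi j hj, if_neg h], by rw [hfe i hi j hj, if_neg h]⟩
  have o1 : ∀ i < M, B (e i) (f i) = 1 ∧ B (f i) (e i) = 1 := fun i hi =>
    ⟨by rw [hef i hi i hi, if_pos rfl], by rw [hfe i hi i hi, if_pos rfl]⟩
  obtain ⟨x, hx⟩ := exists_siegel hB (he 0) (v := f 1) (z0 0 (by omega) 1 (by omega) (by omega)).1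
  obtain ⟨p, hP⟩ := exists_siegel hB (he 2) (v := e 3) (hee _ _)
  obtain ⟨r, hR⟩ := exists_siegel hB (hf 2) (v := (-1 : F) • f 3)
    (by rw [b_smul_right, hff, mul_zero])
  set y := p * r with hy
  have c23 := z0 2 (by omega) 3 (by omega) (by omega)
  have c32 := z0 3 (by omega) 2 (by omega) (by omega)
  have ye2 : ap y (e 2) = (2 : F) • e 2 + (-1 : F) • f 3 := by
    rw [hy, ap_mul, siegel_ap hR, siegel_ap hP]
    simp only [b_add_left, b_sub_left, b_smul_left, b_smul_right, q_smul, (o1 2 (by omega)).1,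
      (o1 2 (by omega)).2, (o1 3 (by omega)).2, c23.1, c23.2, c32.2, hee, hff, he, hf, mul_zero]
    module
  have yf3 : ap y (f 3) = (-1 : F) • e 2 + f 3 := by
    rw [hy, ap_mul, siegel_ap hR, siegel_ap hP]
    simp only [b_add_left, b_sub_left, b_smul_left, b_smul_right, (o1 3 (by omega)).2, c32.2, hff,
      he, hf, q_smul, mul_zero]
    module
  have ye3 : ap y (e 3) = (2 : F) • e 3 + f 2 := by
    rw [hy, ap_mul, siegel_ap hR, siegel_ap hP]
    simp only [b_add_left, b_sub_left, b_smul_left, b_smul_right, (o1 3 (by omega)).1,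
      (o1 2 (by omega)).2, c32.1, c23.2, hee, hff, he, hf, q_smul, mul_zero]
    module
  have yf2 : ap y (f 2) = f 2 + e 3 := by
    rw [hy, ap_mul, siegel_ap hR, siegel_ap hP]
    simp only [b_add_left, b_sub_left, b_smul_left, b_smul_right, (o1 2 (by omega)).2, c23.2, hff,
      he, hf, q_smul, mul_zero]
    module
  have yfix : ∀ z, B z (e 2) = 0 → B z (e 3) = 0 → B z (f 2) = 0 → B z (f 3) = 0 → ap y z = z :=
    fun z a b c d => by
      rw [hy, ap_mul, siegel_fix hR c (by rw [b_smul_right, d, mul_zero]), siegel_fix hP a b]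
  have key : ∀ (α β γ δ : F) (z : ι → F), B z (e 2) = 0 → B z (e 3) = 0 → B z (f 2) = 0 →
      B z (f 3) = 0 → ap y (α • e 2 + β • e 3 + γ • f 2 + δ • f 3 + z) =
        (2 * α - δ) • e 2 + (2 * β + γ) • e 3 + (β + γ) • f 2 + (δ - α) • f 3 + z :=
    fun α β γ δ z a b c d => by
      rw [ap_add, ap_add, ap_add, ap_add, ap_smul, ap_smul, ap_smul, ap_smul, ye2, ye3, yf2, yf3,
        yfix z a b c d]
      module
  set q := Fintype.card F
  have hq0 : (q : F) = 0 := FiniteField.cast_card_eq_zero F
  have hyq : y ^ (q + 1) = 1 := by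
    refine ext_ap fun v => ?_
    have hv : ∃ (α β γ δ : F) (z : ι → F), B z (e 2) = 0 ∧ B z (e 3) = 0 ∧ B z (f 2) = 0 ∧ B z (f 3) = 0 ∧
        v = α • e 2 + β • e 3 + γ • f 2 + δ • f 3 + z := by
      refine ⟨B v (f 2), B v (f 3), B v (e 2), B v (e 3), v - B v (f 2) • e 2 - B v (f 3) • e 3 -
        B v (e 2) • f 2 - B v (e 3) • f 3, ?_, ?_, ?_, ?_, by module⟩ <;>
      · simp only [b_sub_left, b_smul_left, hee, hff, c23.1, c23.2, c32.1, c32.2,
          (o1 2 (by omega)).1, (o1 2 (by omega)).2, (o1 3 (by omega)).1, (o1 3 (by omega)).2]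
        ring
    obtain ⟨α, β, γ, δ, z, a, b, c, d, rfl⟩ := hv
    rw [ap_one]
    rcases Nat.lt_or_ge q 3 with h | h
    · have : q = 2 := by have := hp.two_le; omega
      rw [this, Nat.cast_two] at hq0
      rw [this, pow_succ, pow_succ, pow_succ, pow_zero, one_mul, ap_mul, ap_mul, key _ _ _ _ _ a b c d,
        key _ _ _ _ _ a b c d, key _ _ _ _ _ a b c d]
      match_scalars
      · linear_combination (6 * α - 4 * δ) * hq0
      · linear_combination (6 * β + 4 * γ) * hq0
      · linear_combination (4 * β + 2 * γ) * hq0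
      · linear_combination (2 * δ - 4 * α) * hq0
      · ring
    · have : q = 3 := by omega
      rw [this, Nat.cast_ofNat] at hq0
      rw [this, pow_succ, pow_succ, pow_succ, pow_succ, pow_zero, one_mul, ap_mul, ap_mul, ap_mul,
        key _ _ _ _ _ a b c d, key _ _ _ _ _ a b c d, key _ _ _ _ _ a b c d, key _ _ _ _ _ a b c d]
      match_scalars
      · linear_combination (11 * α - 7 * δ) * hq0
      · linear_combination (11 * β + 7 * γ) * hq0
      · linear_combination (7 * β + 4 * γ) * hq0
      · linear_combination (4 * δ - 7 * α) * hq0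
      · ring
  have hcomm : Commute y x := by
    have h := siegel_conj hx y
    rw [yfix _ (hee _ _) (hee _ _) (z0 0 (by omega) 2 (by omega) (by omega)).1
        (z0 0 (by omega) 3 (by omega) (by omega)).1,
      yfix _ (z0 1 (by omega) 2 (by omega) (by omega)).2 (z0 1 (by omega) 3 (by omega) (by omega)).2
        (hff _ _) (hff _ _)] at h
    exact mul_inv_eq_iff_eq_mul.1 (siegel_unique h hx)
  refine ⟨y * x, mul_mem (mul_mem (siegel_mem_El hP) (siegel_mem_El hR)) (siegel_mem_El hx), g, hg,
    fun H ha hgH => ?_⟩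
  have hxH : x ∈ H := by
    have := pow_mem ha (q + 1)
    rw [hcomm.mul_pow, hyq, one_mul] at this
    have h := siegel_pow hx (q + 1)
    rw [Nat.cast_succ, hq0, zero_add, one_smul] at h
    rwa [siegel_unique h hx] at this
  have hyH : y ∈ H := by
    have := mul_mem ha (inv_mem hxH)
    rwa [mul_inv_cancel_right] at this
  let R : ℕ → ℕ → Prop := fun i j => ∀ t : F, Mem H (e i) (t • f j)
  have comp : ∀ i j k, i < M → j < M → k < M → i ≠ j → j ≠ k → i ≠ k → R i j → R j k → R i k := by
    intro i j k hi hj hk hij hjk hik h1 h2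
    obtain ⟨s, hs, hS⟩ := h2 1
    have hfix : ap s (e i) = e i :=
      siegel_fix hS (hee _ _) (by rw [b_smul_right, (z0 i hi k hk hik).1, mul_zero])
    have h := ((h1 1).act hs hfix).sub hB (h1 1)
    have h' : Mem H (e i) ((1 : F) • f k) := by
      convert h using 1
      rw [ap_smul, siegel_ap hS]
      simp only [one_smul, hf, hff, (o1 j hj).2]
      module
    exact h'.line hB hp one_ne_zero
  have shiftR : ∀ i, i + 1 < M → R i (i + 1) := by
    intro i
    induction i with
    | zero => intro _; exact Mem.line hB hp (s := 1) one_ne_zero ⟨x, hxH, by rwa [one_smul]⟩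
    | succ i ih =>
      intro hi
      have h := (ih (by omega) 1).conj hgH
      rw [one_smul, (g1 i (by omega)).1] at h
      rcases Nat.lt_or_ge (i + 1 + 1) M with h2 | h2
      · rw [(g1 (i + 1) (by omega)).2] at h
        exact Mem.line hB hp (s := 1) one_ne_zero (by rwa [one_smul])
      · omega
  have wrap : R (M - 1) 0 := by
    have h := (shiftR (M - 2) (by omega) 1).conj hgH
    rw [one_smul, (g1 (M - 2) (by omega)).1, show M - 2 + 1 = M - 1 by omega, g3] at h
    exact h.line hB hp hτ
  have up : ∀ i j, i < j → j < M → R i j := by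
    intro i j hij
    induction j with
    | zero => omega
    | succ j ih =>
      intro hj
      rcases Nat.lt_succ_iff_lt_or_eq.1 hij with h | rfl
      · exact comp i j (j + 1) (by omega) (by omega) hj (by omega) (by omega) (by omega)
          (ih h (by omega)) (shiftR j hj)
      · exact shiftR i hj
  have to0 : ∀ i, i < M → i ≠ 0 → R i 0 := by
    intro i hi hi0
    rcases eq_or_ne i (M - 1) with rfl | h
    · exact wrap
    · exact comp i (M - 1) 0 hi (by omega) (by omega) h (by omega) hi0 (up i (M - 1) (by omega)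
        (by omega)) wrap
  have all : ∀ i j, i < M → j < M → i ≠ j → R i j := by
    intro i j hi hj hij
    rcases Nat.lt_or_ge i j with h | h
    · exact up i j h hj
    · rcases Nat.eq_zero_or_pos j with rfl | hj0
      · exact to0 i hi hij
      · exact comp i 0 j hi (by omega) hj (by omega) (by omega) hij (to0 i hi (by omega))
          (up 0 j hj0 hj)
  have T3 : Mem H (e 0) ((1 : F) • e 3) := by
    have h2 := all 0 2 (by omega) (by omega) (by omega) 1
    have h := h2.act hyH (yfix _ (hee _ _) (hee _ _) (z0 0 (by omega) 2 (by omega) (by omega)).1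
      (z0 0 (by omega) 3 (by omega) (by omega)).1)
    rw [one_smul, yf2] at h
    have := h.sub hB (by simpa using h2)
    rwa [add_sub_cancel_left, ← one_smul F (e 3)] at this
  have U3 : Mem H (f 0) ((1 : F) • f 3) := by
    have h2 := all 2 0 (by omega) (by omega) (by omega)
    have h := (h2 1).conj hyH
    rw [one_smul, ye2, yfix _ (z0 0 (by omega) 2 (by omega) (by omega)).2
      (z0 0 (by omega) 3 (by omega) (by omega)).2 (hff _ _) (hff _ _)] at h
    have h3 := h.swap (hf 0)
    have h4 := ((h2 1).swap (by rw [one_smul]; exact hf 0))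
    rw [one_smul] at h4
    convert h3.sub hB (h4.add h4) using 1
    module
  have Te : ∀ a, a < M → a ≠ 0 → ∀ t : F, Mem H (e 0) (t • e a) := by
    intro a ha ha0
    rcases eq_or_ne a 3 with rfl | ha3
    · exact T3.line hB hp one_ne_zero
    obtain ⟨s, hs, hS⟩ := all a 3 ha (by omega) ha3 1
    have hfix : ap s (e 0) = e 0 := siegel_fix hS (hee _ _)
      (by rw [b_smul_right, (z0 0 (by omega) 3 (by omega) (by omega)).1, mul_zero])
    have h := T3.sub hB (T3.act hs hfix)
    have h' : Mem H (e 0) ((1 : F) • e a) := by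
      convert h using 1
      rw [ap_smul, siegel_ap hS]
      simp only [one_smul, hee, hf, (o1 3 (by omega)).1]
      module
    exact h'.line hB hp one_ne_zero
  have Uf : ∀ a, a < M → a ≠ 0 → ∀ t : F, Mem H (f 0) (t • f a) := by
    intro a ha ha0
    rcases eq_or_ne a 3 with rfl | ha3
    · exact U3.line hB hp one_ne_zero
    obtain ⟨s, hs, hS⟩ := all 3 a (by omega) ha ha3.symm 1
    have hfix : ap s (f 0) = f 0 := siegel_fix hS
      (z0 0 (by omega) 3 (by omega) (by omega)).2 (by rw [b_smul_right, hff, mul_zero])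
    have h := (U3.act hs hfix).sub hB U3
    have h' : Mem H (f 0) ((1 : F) • f a) := by
      convert h using 1
      rw [ap_smul, siegel_ap hS]
      simp only [one_smul, hff, hf, (o1 3 (by omega)).2]
      module
    exact h'.line hB hp one_ne_zero
  have Ue : ∀ a, a < M → a ≠ 0 → ∀ t : F, Mem H (f 0) (t • e a) := by
    intro a ha ha0
    have h := (all a 0 ha (by omega) ha0 1).swap (by rw [one_smul]; exact hf 0)
    rw [one_smul, ← neg_one_smul F (e a)] at h
    exact h.line hB hp (neg_ne_zero.2 one_ne_zero)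
  have sumMem : ∀ (u : ι → F) (s : Finset ℕ) (w : ℕ → ι → F), Q u = 0 →
      (∀ i ∈ s, Mem H u (w i)) → Mem H u (∑ i ∈ s, w i) := by
    intro u s w hu hw
    induction s using Finset.induction_on with
    | empty => rw [Finset.sum_empty]; exact Mem.zero hu
    | insert i s hi ih =>
      rw [Finset.sum_insert hi]
      exact (hw i (Finset.mem_insert_self _ _)).add
        (ih fun j hj => hw j (Finset.mem_insert_of_mem hj))
  have hall : ∀ (u v : ℕ → ι → F), (∀ i, Q (u i) = 0) →
      (∀ a, a < M → a ≠ 0 → ∀ t : F, Mem H (u 0) (t • u a) ∧ Mem H (u 0) (t • v a)) →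
      (∀ i < M, B (u 0) (u i) = 0 ∧ B (u 0) (v i) = if i = 0 then 1 else 0) →
      ∀ x (c d : ℕ → F), x = (∑ i ∈ Finset.range M, c i • u i) + ∑ i ∈ Finset.range M, d i • v i →
      B (u 0) x = 0 → Mem H (u 0) x := by
    intro u v hu hm hb x c d hx h0
    have hd : d 0 = 0 := by
      rw [hx, b_add_right, show B (u 0) (∑ i ∈ Finset.range M, c i • u i) = 0 from ?_,
        show B (u 0) (∑ i ∈ Finset.range M, d i • v i) = d 0 from ?_, zero_add] at h0
      · exact h0
      · rw [← QuadraticMap.polarBilin_apply_apply, map_sum, Finset.sum_eq_single 0]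
        · simp [b_smul_right, (hb 0 (by omega)).2]
        · intro j hj hj0
          simp [b_smul_right, (hb j (Finset.mem_range.1 hj)).2, hj0]
        · simp; omega
      · rw [← QuadraticMap.polarBilin_apply_apply, map_sum]
        exact Finset.sum_eq_zero fun j hj => by
          simp [b_smul_right, (hb j (Finset.mem_range.1 hj)).1]
    rw [hx]
    refine (sumMem _ _ _ (hu 0) fun i hi => ?_).add (sumMem _ _ _ (hu 0) fun i hi => ?_)
    · rcases eq_or_ne i 0 with rfl | hi0
      · simpa using (Mem.zero (H := H) (hu 0)).self_add (c 0)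
      · exact (hm i (Finset.mem_range.1 hi) hi0 _).1
    · rcases eq_or_ne i 0 with rfl | hi0
      · rw [hd, zero_smul]; exact Mem.zero (hu 0)
      · exact (hm i (Finset.mem_range.1 hi) hi0 _).2
  refine El_le_of_two hB (u := e 0) (f := f 0) (he 0) (hf 0)
    (by rw [(o1 0 (by omega)).1]; exact one_ne_zero) (fun v s hs => ?_) (fun v s hs => ?_)
  · obtain ⟨c, d, hv⟩ := hspan v
    obtain ⟨s', hs', h'⟩ := hall e f he
      (fun a ha ha0 t => ⟨Te a ha ha0 t, all 0 a (by omega) ha (Ne.symm ha0) t⟩)
      (fun i hi => ⟨hee _ _, (hef 0 (by omega) i hi).trans (if_congr eq_comm rfl rfl)⟩)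
      v c d hv hs.2.1
    rwa [siegel_unique hs h']
  · obtain ⟨c, d, hv⟩ := hspan v
    obtain ⟨s', hs', h'⟩ := hall f e hf (fun a ha ha0 t => ⟨Uf a ha ha0 t, Ue a ha ha0 t⟩)
      (fun i hi => ⟨hff _ _, (hfe 0 (by omega) i hi).trans (if_congr eq_comm rfl rfl)⟩)
      v d c (by rw [hv, add_comm]) hs.2.1
    rwa [siegel_unique hs h']

/-- Two generators in the standard plus space over a small field. -/
theorem two_gen_plus_std {m : ℕ} (hm : 4 ≤ m) (hF : Fintype.card F ≤ 3)
    {Q : QuadraticForm F (Fin m ⊕ Fin m → F)} (hB : Nondeg Q)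
    (hQ : ⇑Q = Cfsg.quadFormPlus m F) :
    ∃ a ∈ El Q, ∃ b ∈ El Q, ∀ H : Subgroup (Grp Q), a ∈ H → b ∈ H → El Q ≤ H := by
  classical
  refine two_gen_plus_small hB hm hF
    (e := fun i => if h : i < m then Pi.single (.inl ⟨i, h⟩) 1 else 0)
    (f := fun i => if h : i < m then Pi.single (.inr ⟨i, h⟩) 1 else 0) ?_ ?_ ?_ ?_ ?_ fun z => ?_
  · intro i
    by_cases h : i < m <;> simp [hQ, h, Cfsg.quadFormPlus]
  · intro i
    by_cases h : i < m <;> simp [hQ, h, Cfsg.quadFormPlus]
  · intro i j
    by_cases h : i < m <;> by_cases h' : j < m <;> simp [hQ, h, h', polar_plus]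
  · intro i j
    by_cases h : i < m <;> by_cases h' : j < m <;> simp [hQ, h, h', polar_plus]
  · intro i hi j hj
    simp [hQ, hi, hj, polar_plus, Pi.single_apply, Fin.ext_iff]
    rw [Finset.sum_eq_single (⟨j, hj⟩ : Fin m) (fun x _ hx => if_neg fun h => hx (Fin.ext h))
      (by simp), if_pos rfl]
    exact if_congr eq_comm rfl rfl
  · refine ⟨fun i => if h : i < m then z (.inl ⟨i, h⟩) else 0,
      fun i => if h : i < m then z (.inr ⟨i, h⟩) else 0, funext fun j => ?_⟩
    rw [Finset.sum_range fun i => (if h : i < m then z (.inl ⟨i, h⟩) else 0) •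
        (if h : i < m then (Pi.single (.inl ⟨i, h⟩) 1 : Fin m ⊕ Fin m → F) else 0),
      Finset.sum_range fun i => (if h : i < m then z (.inr ⟨i, h⟩) else 0) •
        (if h : i < m then (Pi.single (.inr ⟨i, h⟩) 1 : Fin m ⊕ Fin m → F) else 0)]
    rcases j with j | j <;> simp [Pi.single_apply]

end CfsgLib.TwoGen.Ort
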