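import Cfsg.Agent.Lib.Classical.TwoGen.OrthFrames
import Cfsg.Agent.Lib.Classical.TwoGen.OrthPlusSmall

set_option autoImplicit false

/-!
From generators of the group of Siegel transformations to two generators of `PΩ`.
-/

namespace CfsgLib.TwoGen.Ort

open CfsgLib.Orth

variable {F : Type*} [Field F] [Fintype F] {ι : Type} [Fintype ι] [DecidableEq ι]
variable {Q : QuadraticForm F (ι → F)}

theorem pomega_two (hB : Nondeg Q) (hn : 5 ≤ Module.finrank F (ι → F))
    (h : ∃ a ∈ El Q, ∃ b ∈ El Q, ∀ H : Subgroup (Grp Q), a ∈ H → b ∈ H → El Q ≤ H) :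
    ∃ a b : Cfsg.POmega F ⇑Q, Subgroup.closure ({a, b} : Set (Cfsg.POmega F ⇑Q)) = ⊤ := by
  obtain ⟨a, ha, b, hb, hH⟩ := h
  have hO := omega_eq_El hB hn
  let a' : Cfsg.Omega F ⇑Q := ⟨a, hO.symm ▸ ha⟩
  let b' : Cfsg.Omega F ⇑Q := ⟨b, hO.symm ▸ hb⟩
  have hT : Subgroup.closure ({a', b'} : Set (Cfsg.Omega F ⇑Q)) = ⊤ := by
    refine eq_top_iff.2 fun x _ => ?_
    have h1 := hH ((Subgroup.closure {a', b'}).map (Cfsg.Omega F ⇑Q).subtype)
      ⟨a', Subgroup.subset_closure (by simp), rfl⟩ ⟨b', Subgroup.subset_closure (by simp), rfl⟩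
      (hO.le x.2)
    obtain ⟨y, hy, he⟩ := h1
    exact (Subtype.ext he : y = x) ▸ hy
  refine ⟨QuotientGroup.mk' _ a', QuotientGroup.mk' _ b', ?_⟩
  rw [← Set.image_pair, ← MonoidHom.map_closure, hT,
    Subgroup.map_top_of_surjective _ (QuotientGroup.mk'_surjective _)]

/-- A scalar other than `0`, `1`, `-1` in a field with at least four elements. -/
theorem exists_scalar (hF : 4 ≤ Fintype.card F) : ∃ c : F, c ≠ 0 ∧ c ≠ 1 ∧ c ≠ -1 := by
  classical
  by_contra hc
  push Not at hc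
  have : (Finset.univ : Finset F) ⊆ {0, 1, -1} := fun c _ => by
    simp only [Finset.mem_insert, Finset.mem_singleton]
    by_cases h0 : c = 0
    · exact Or.inl h0
    by_cases h1 : c = 1
    · exact Or.inr (Or.inl h1)
    exact Or.inr (Or.inr (hc c h0 h1))
  have h1 := Finset.card_le_card this
  have h2 : ({0, 1, -1} : Finset F).card ≤ 3 := Finset.card_le_three
  rw [Finset.card_univ] at h1
  omega

end CfsgLib.TwoGen.Ort
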