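import Cfsg.Agent.Lib.Classical.OrthStab
import Cfsg.Agent.Lib.Classical.OrthOmega

set_option autoImplicit false
set_option linter.unusedSectionVars false

/-!
Siegel parameters inside a subgroup, and monomial elements built from Siegel transformations.
-/

namespace CfsgLib.TwoGen.Ort

open CfsgLib.Orth

variable {F : Type*} [Field F] {ι : Type} [Fintype ι] [DecidableEq ι]
variable {Q : QuadraticForm F (ι → F)}

local notation "B" => QuadraticMap.polar (DFunLike.coe Q)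

/-- `a` is a parameter at `u` of a Siegel transformation in `H`. -/
def Mem (H : Subgroup (Grp Q)) (u a : ι → F) : Prop := ∃ g ∈ H, IsSiegel u a g

theorem siegel_ap {u a : ι → F} {g : Grp Q} (h : IsSiegel u a g) (x : ι → F) :
    ap g x = x + B x u • a - B x a • u - (Q a * B x u) • u := h.2.2 x

theorem siegel_ap_self {u a : ι → F} {g : Grp Q} (h : IsSiegel u a g) : ap g u = u :=
  siegel_fix h (b_self_zero h.1) h.2.1

theorem siegel_swap {u a : ι → F} {g : Grp Q} (h : IsSiegel u a g) (ha : Q a = 0) :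
    IsSiegel a (-u) g := by
  refine ⟨ha, by rw [← neg_one_smul F u, b_smul_right, b_comm, h.2.1, mul_zero], fun x => ?_⟩
  rw [h.2.2, ha, QuadraticMap.map_neg, h.1, ← neg_one_smul F u, b_smul_right]
  module

theorem siegel_pow {u a : ι → F} {g : Grp Q} (h : IsSiegel u a g) (k : ℕ) :
    IsSiegel u ((k : F) • a) (g ^ k) := by
  induction k with
  | zero => rw [Nat.cast_zero, zero_smul, pow_zero]; exact siegel_one h.1
  | succ k ih => rw [Nat.cast_succ, add_smul, one_smul, pow_succ]; exact siegel_mul ih h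

variable {H : Subgroup (Grp Q)} {u a b : ι → F}

theorem Mem.q (h : Mem H u a) : Q u = 0 := by obtain ⟨g, -, hg⟩ := h; exact hg.1

theorem Mem.orth (h : Mem H u a) : B u a = 0 := by obtain ⟨g, -, hg⟩ := h; exact hg.2.1

theorem Mem.zero (hu : Q u = 0) : Mem H u 0 := ⟨1, one_mem _, siegel_one hu⟩

theorem Mem.add (ha : Mem H u a) (hb : Mem H u b) : Mem H u (a + b) := by
  obtain ⟨g, hg, h⟩ := ha
  obtain ⟨g', hg', h'⟩ := hb
  exact ⟨g * g', mul_mem hg hg', siegel_mul h h'⟩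

theorem Mem.neg (hB : Nondeg Q) (ha : Mem H u a) : Mem H u (-a) := by
  obtain ⟨g, hg, h⟩ := ha
  have hna : B u (-a) = 0 := by rw [← neg_one_smul F a, b_smul_right, h.2.1, mul_zero]
  obtain ⟨k, hk⟩ := exists_siegel hB h.1 hna
  have h1 := siegel_mul h hk
  rw [add_neg_cancel] at h1
  have h2 : g * k = 1 := siegel_unique h1 (siegel_one h.1)
  exact ⟨k, by rw [eq_inv_of_mul_eq_one_right h2]; exact inv_mem hg, hk⟩

theorem Mem.sub (hB : Nondeg Q) (ha : Mem H u a) (hb : Mem H u b) : Mem H u (a - b) := by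
  rw [sub_eq_add_neg]; exact ha.add (hb.neg hB)

theorem Mem.self_add (ha : Mem H u a) (t : F) : Mem H u (a + t • u) := by
  obtain ⟨g, hg, h⟩ := ha
  exact ⟨g, hg, siegel_add_self h t⟩

theorem Mem.conj {s : Grp Q} (hs : s ∈ H) (ha : Mem H u a) : Mem H (ap s u) (ap s a) := by
  obtain ⟨g, hg, h⟩ := ha
  exact ⟨_, mul_mem (mul_mem hs hg) (inv_mem hs), siegel_conj h s⟩

theorem Mem.act {s : Grp Q} (hs : s ∈ H) (hsu : ap s u = u) (ha : Mem H u a) : Mem H u (ap s a) := by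
  have := ha.conj hs
  rwa [hsu] at this

theorem Mem.swap (ha : Mem H u a) (h0 : Q a = 0) : Mem H a (-u) := by
  obtain ⟨g, hg, h⟩ := ha
  exact ⟨g, hg, siegel_swap h h0⟩

theorem Mem.smul (hB : Nondeg Q) {c : F} (ha : Mem H (c • u) a) (hu : Q u = 0) (h0 : B u a = 0) :
    Mem H u (c • a) := by
  obtain ⟨g, hg, h⟩ := ha
  obtain ⟨k, hk⟩ := exists_siegel hB hu h0
  exact ⟨g, hg, siegel_smul hk c h⟩

theorem Mem.smul' (hB : Nondeg Q) {c : F} (hc : c ≠ 0) (ha : Mem H (c • u) a) :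
    Mem H u (c • a) := by
  refine ha.smul hB ?_ ?_
  · have := ha.q
    rw [q_smul] at this
    exact (mul_eq_zero.1 this).resolve_left (mul_ne_zero hc hc)
  · have := ha.orth
    rw [b_smul_left] at this
    exact (mul_eq_zero.1 this).resolve_left hc

/-- The exchange of a hyperbolic pair with the reflection in `w`. -/
theorem exists_exchange (hB : Nondeg Q) {e f w : ι → F} (he : Q e = 0) (hf : Q f = 0)
    (hef : B e f = 1) (hwe : B e w = 0) (hwf : B f w = 0) (hw : Q w ≠ 0) :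
    ∃ g ∈ El Q, ap g e = (-(Q w)⁻¹) • f ∧ ap g f = (-Q w) • e ∧
      ∀ z, B z e = 0 → B z f = 0 → ap g z = z - (B z w / Q w) • w := by
  obtain ⟨g₁, h₁⟩ := exists_siegel hB he hwe
  obtain ⟨g₂, h₂⟩ := exists_siegel hB hf (v := (Q w)⁻¹ • w) (by rw [b_smul_right, hwf, mul_zero])
  have hfe : B f e = 1 := by rw [b_comm, hef]
  have hwe' : B w e = 0 := by rw [b_comm, hwe]
  have hwf' : B w f = 0 := by rw [b_comm, hwf]
  refine ⟨g₁ * g₂ * g₁, mul_mem (mul_mem (siegel_mem_El h₁) (siegel_mem_El h₂)) (siegel_mem_El h₁),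
    ?_, ?_, fun z hze hzf => ?_⟩
  · rw [ap_mul, ap_mul, siegel_ap_self h₁, siegel_ap h₂, siegel_ap h₁]
    simp only [b_add_left, b_sub_left, b_smul_left, b_smul_right, q_smul, hef, hfe, hwe, hwf, hwe',
      hwf', b_self, he, hf, mul_zero]
    match_scalars <;> field_simp <;> ring1
  · rw [ap_mul, ap_mul, siegel_ap h₁ f, siegel_ap h₂, siegel_ap h₁]
    simp only [b_add_left, b_sub_left, b_smul_left, b_smul_right, q_smul, hef, hfe, hwe, hwf, hwe',
      hwf', b_self, he, hf, mul_zero]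
    match_scalars <;> field_simp <;> ring1
  · rw [ap_mul, ap_mul, siegel_ap h₁ z, siegel_ap h₂, siegel_ap h₁]
    simp only [b_add_left, b_sub_left, b_smul_left, b_smul_right, q_smul, hef, hfe, hwe, hwf, hwe',
      hwf', b_self, he, hf, hze, hzf, mul_zero]
    match_scalars <;> field_simp <;> ring1

/-- Two pairs exchanged inside `El`. -/
theorem exists_swapPairs (hB : Nondeg Q) {e e' f f' : ι → F} (he : Q e = 0) (he' : Q e' = 0)
    (hf : Q f = 0) (hf' : Q f' = 0) (hef : B e f = 1) (hef' : B e' f' = 1)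
    (h1 : B e e' = 0) (h2 : B e f' = 0) (h3 : B f e' = 0) (h4 : B f f' = 0) :
    ∃ g ∈ El Q, ap g e = e' ∧ ap g e' = (-1 : F) • e ∧ ap g f = f' ∧ ap g f' = (-1 : F) • f ∧
      ∀ z, B z e = 0 → B z e' = 0 → B z f = 0 → B z f' = 0 → ap g z = z := by
  obtain ⟨g₁, k₁⟩ := exists_siegel hB he' (v := (-1 : F) • f)
    (by rw [b_smul_right, b_comm, h3, mul_zero])
  obtain ⟨g₂, k₂⟩ := exists_siegel hB he (v := f') h2
  have hfe : B f e = 1 := by rw [b_comm, hef]
  have hfe' : B f' e' = 1 := by rw [b_comm, hef']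
  have i1 : B e' e = 0 := by rw [b_comm, h1]
  have i2 : B f' e = 0 := by rw [b_comm, h2]
  have i3 : B e' f = 0 := by rw [b_comm, h3]
  have i4 : B f' f = 0 := by rw [b_comm, h4]
  refine ⟨g₁ * g₂ * g₁, mul_mem (mul_mem (siegel_mem_El k₁) (siegel_mem_El k₂)) (siegel_mem_El k₁),
    ?_, ?_, ?_, ?_, fun z a1 a2 a3 a4 => ?_⟩
  all_goals
    rw [ap_mul, ap_mul, siegel_ap k₁, siegel_ap k₂, siegel_ap k₁]
    simp only [b_add_left, b_sub_left, b_smul_left, b_smul_right, q_smul, hef, hfe, hef', hfe', h1,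
      h2, h3, h4, i1, i2, i3, i4, b_self, he, he', hf, hf', mul_zero]
  · module
  · module
  · module
  · module
  · simp only [a1, a2, a3, a4]
    module

/-- A cycle through hyperbolic pairs inside `El`. -/
theorem exists_cycle (hB : Nondeg Q) {M : ℕ} {e f : ℕ → ι → F} (he : ∀ i < M, Q (e i) = 0)
    (hf : ∀ i < M, Q (f i) = 0)
    (hef : ∀ i < M, ∀ j < M, B (e i) (f j) = if i = j then 1 else 0)
    (hee : ∀ i < M, ∀ j < M, B (e i) (e j) = 0) (hff : ∀ i < M, ∀ j < M, B (f i) (f j) = 0)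
    (j : ℕ) (hj : j < M) :
    ∃ g ∈ El Q, (∀ i < j, ap g (e i) = e (i + 1) ∧ ap g (f i) = f (i + 1)) ∧
      (∃ σ : F, σ ≠ 0 ∧ ap g (e j) = σ • e 0) ∧ (∃ τ : F, τ ≠ 0 ∧ ap g (f j) = τ • f 0) ∧
      (∀ i < M, j < i → ap g (e i) = e i ∧ ap g (f i) = f i) ∧
      ∀ z, (∀ i < M, B z (e i) = 0 ∧ B z (f i) = 0) → ap g z = z := by
  induction j with
  | zero =>
    exact ⟨1, one_mem _, fun i h => absurd h (Nat.not_lt_zero i),
      ⟨1, one_ne_zero, by rw [ap_one, one_smul]⟩, ⟨1, one_ne_zero, by rw [ap_one, one_smul]⟩,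
      fun i _ _ => ⟨ap_one _, ap_one _⟩, fun z _ => ap_one z⟩
  | succ j ih =>
    obtain ⟨g, hg, g1, ⟨σ, hσ, g2⟩, ⟨τ, hτ, g3⟩, g4, g5⟩ := ih (by omega)
    have hj0 : j < M := by omega
    have fe : ∀ i < M, ∀ k < M, B (f i) (e k) = if k = i then 1 else 0 := fun i hi k hk => by
      rw [b_comm, hef k hk i hi]
    obtain ⟨n, hn, n1, n2, n3, n4, n5⟩ := exists_swapPairs hB (he j hj0) (he _ hj) (hf j hj0)
      (hf _ hj) (by rw [hef j hj0 j hj0, if_pos rfl]) (by rw [hef _ hj _ hj, if_pos rfl])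
      (hee j hj0 _ hj) (by rw [hef j hj0 _ hj, if_neg (by omega)])
      (by rw [fe j hj0 _ hj, if_neg (by omega)]) (hff j hj0 _ hj)
    have nfix : ∀ i < M, i ≠ j → i ≠ j + 1 → ap n (e i) = e i ∧ ap n (f i) = f i := fun i hi a b =>
      ⟨n5 _ (hee i hi j hj0) (hee i hi _ hj) (by rw [hef i hi j hj0, if_neg a])
          (by rw [hef i hi _ hj, if_neg b]),
        n5 _ (by rw [fe i hi j hj0, if_neg (Ne.symm a)]) (by rw [fe i hi _ hj, if_neg (Ne.symm b)])
          (hff i hi j hj0) (hff i hi _ hj)⟩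
    refine ⟨g * n, mul_mem hg hn, fun i hi => ?_, ⟨-σ, neg_ne_zero.2 hσ, ?_⟩,
      ⟨-τ, neg_ne_zero.2 hτ, ?_⟩, fun i hi hji => ?_, fun z hz => ?_⟩
    · rcases Nat.lt_succ_iff_lt_or_eq.1 hi with h | rfl
      · obtain ⟨a, b⟩ := nfix i (by omega) (by omega) (by omega)
        rw [ap_mul, ap_mul, a, b]
        exact g1 i h
      · rw [ap_mul, ap_mul, n1, n3]
        exact g4 _ hj (by omega)
    · rw [ap_mul, n2, ap_smul, g2, smul_smul, neg_one_mul]
    · rw [ap_mul, n4, ap_smul, g3, smul_smul, neg_one_mul]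
    · obtain ⟨a, b⟩ := nfix i hi (by omega) (by omega)
      rw [ap_mul, ap_mul, a, b]
      exact g4 i hi (by omega)
    · rw [ap_mul, n5 z (hz j hj0).1 (hz _ hj).1 (hz j hj0).2 (hz _ hj).2, g5 z hz]

end CfsgLib.TwoGen.Ort
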