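import Cfsg.Agent.Lib.Classical.TwoGen.Orth
import Cfsg.Agent.Lib.Classical.OrthForms

set_option autoImplicit false
set_option linter.unusedSectionVars false

/-!
Frames of the three standard orthogonal spaces.
-/

namespace CfsgLib.TwoGen.Ort

open CfsgLib.Orth

variable {F : Type*} [Field F] {ι : Type} [Fintype ι] [DecidableEq ι]
variable {Q : QuadraticForm F (ι → F)}

local notation "B" => QuadraticMap.polar (DFunLike.coe Q)

/-- A frame from hyperbolic pairs and two vectors of the complement. -/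
theorem exists_frame {N : ℕ} (e f : Fin (N + 3) → ι → F) (he : ∀ i, Q (e i) = 0)
    (hf : ∀ i, Q (f i) = 0) (hee : ∀ i j, B (e i) (e j) = 0) (hff : ∀ i j, B (f i) (f j) = 0)
    (hef : ∀ i j, B (e i) (f j) = if i = j then 1 else 0) (u w : ι → F)
    (hu : ∀ i, B (e i) u = 0 ∧ B (f i) u = 0) (hw : ∀ i, B (e i) w = 0 ∧ B (f i) w = 0)
    (qu : Q u ≠ 0) (qw : Q w ≠ 0)
    (hs : ∀ z, (∀ i, B (e i) z = 0 ∧ B (f i) z = 0) →
      ∃ a b : F, z = a • w + b • (w - (B w u / Q u) • u)) : Nonempty (Fr Q N) := by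
  let v : ZMod (2 * (N + 3)) → ι → F := fun k =>
    if h : k.val < N + 3 then e ⟨k.val, h⟩
    else f ⟨k.val - (N + 3), by have := k.val_lt; omega⟩
  have hval : ∀ n : ℕ, n < 2 * (N + 3) → ((n : ZMod (2 * (N + 3)))).val = n := fun n hn => by
    rw [ZMod.val_natCast, Nat.mod_eq_of_lt hn]
  have hve : ∀ i : Fin (N + 3), v ((i : ℕ) : ZMod _) = e i := fun i => by
    have := hval i (by omega)
    simp only [v]
    rw [dif_pos (by omega)]
    exact congrArg e (Fin.ext this)
  have hvf : ∀ i : Fin (N + 3), v (((i : ℕ) + (N + 3) : ℕ) : ZMod _) = f i := fun i => by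
    have := hval ((i : ℕ) + (N + 3)) (by omega)
    simp only [v]
    rw [dif_neg (by omega)]
    exact congrArg f (Fin.ext (by simp only [this]; omega))
  have cases' : ∀ k, ∃ i : Fin (N + 3), k = ((i : ℕ) : ZMod (2 * (N + 3))) ∨
      k = (((i : ℕ) + (N + 3) : ℕ) : ZMod (2 * (N + 3))) := fun k => by
    obtain ⟨i, hi, h⟩ := index_cases (N := N) k
    exact ⟨⟨i, hi⟩, h⟩
  refine ⟨{ v := v, qv := fun k => ?_, bv := fun k l => ?_, u := u, w := w, bu := fun k => ?_,
            bw := fun k => ?_, qu := qu, qw := qw, span := fun z hz => hs z fun i => ?_ }⟩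
  · obtain ⟨i, rfl | rfl⟩ := cases' k
    · rw [hve, he]
    · rw [hvf, hf]
  · obtain ⟨i, rfl | rfl⟩ := cases' k <;> obtain ⟨j, rfl | rfl⟩ := cases' l <;>
      simp only [hve, hvf]
    · rw [hee, if_neg]
      rw [← Nat.cast_add, cast_eq_iff (by omega) (by omega)]; omega
    · rw [hef]
      refine if_congr ?_ rfl rfl
      rw [← Nat.cast_add, cast_eq_iff (by omega) (by omega), Fin.ext_iff]; omega
    · rw [b_comm, hef]
      refine if_congr ?_ rfl rfl
      rw [← Nat.cast_add, show (i : ℕ) + (N + 3) + (N + 3) = i + 2 * (N + 3) by ring, Nat.cast_add,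
        ZMod.natCast_self, add_zero, cast_eq_iff (by omega) (by omega), Fin.ext_iff]
      omega
    · rw [hff, if_neg]
      rw [← Nat.cast_add ((i : ℕ) + (N + 3)), show (i : ℕ) + (N + 3) + (N + 3) = i + 2 * (N + 3) by ring,
        Nat.cast_add (i : ℕ), ZMod.natCast_self, add_zero, cast_eq_iff (by omega) (by omega)]
      omega
  · obtain ⟨i, rfl | rfl⟩ := cases' k
    · rw [hve]; exact (hu i).1
    · rw [hvf]; exact (hu i).2
  · obtain ⟨i, rfl | rfl⟩ := cases' k
    · rw [hve]; exact (hw i).1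
    · rw [hvf]; exact (hw i).2
  · exact ⟨by rw [← hve]; exact hz _, by rw [← hvf]; exact hz _⟩

/-- The odd-dimensional frame. -/
theorem frame_odd {N : ℕ} {Q : QuadraticForm F (Unit ⊕ (Fin (N + 3) ⊕ Fin (N + 3)) → F)}
    (hQ : ⇑Q = Cfsg.quadFormOdd (N + 3) F) : Nonempty (Fr Q N) := by
  classical
  refine exists_frame (fun i => Pi.single (.inr (.inl i)) 1) (fun i => Pi.single (.inr (.inr i)) 1)
    ?_ ?_ ?_ ?_ ?_ (Pi.single (.inl ()) 1) (Pi.single (.inl ()) 1) ?_ ?_ ?_ ?_ ?_
  · simp [hQ, Cfsg.quadFormOdd]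
  · simp [hQ, Cfsg.quadFormOdd]
  · simp [hQ, polar_odd]
  · simp [hQ, polar_odd]
  · intro i j; simp [hQ, polar_odd, Pi.single_apply]; exact if_congr eq_comm rfl rfl
  · simp [hQ, polar_odd]
  · simp [hQ, polar_odd]
  · simp [hQ, Cfsg.quadFormOdd]
  · simp [hQ, Cfsg.quadFormOdd]
  · intro z hz
    refine ⟨z (.inl ()), 0, funext fun j => ?_⟩
    rcases j with j | j | j
    · simp
    · simpa [hQ, polar_odd, Pi.single_apply] using (hz j).2
    · simpa [hQ, polar_odd, Pi.single_apply] using (hz j).1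

/-- The frame of minus type. -/
theorem frame_minus [Finite F] {N : ℕ} {a b : F}
    (hab : ∀ z₁ z₂ : F, z₁ ^ 2 + a * z₁ * z₂ + b * z₂ ^ 2 = 0 → z₁ = 0 ∧ z₂ = 0)
    {Q : QuadraticForm F ((Fin (N + 3) ⊕ Fin (N + 3)) ⊕ Fin 2 → F)}
    (hQ : ⇑Q = Cfsg.quadFormMinus (N + 3) F a b) : Nonempty (Fr Q N) := by
  classical
  obtain ⟨t, hBwu⟩ : ∃ t : F, 2 * t + a ≠ 0 := by
    by_cases ha : a = 0
    · refine ⟨1, ?_⟩
      rw [ha, add_zero, mul_one]
      intro h2
      have hd := aniso_disc hab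
      rw [ha] at hd
      exact hd (by linear_combination 2 * b * h2)
    · exact ⟨0, by rwa [mul_zero, zero_add]⟩
  have qwne : t * t + a * t + b ≠ 0 := fun e =>
    one_ne_zero (hab t 1 (by linear_combination e)).2
  refine exists_frame (fun i => Pi.single (.inl (.inl i)) 1) (fun i => Pi.single (.inl (.inr i)) 1)
    ?_ ?_ ?_ ?_ ?_ (Pi.single (.inr 0) 1) (t • Pi.single (.inr 0) 1 + Pi.single (.inr 1) 1)
    ?_ ?_ ?_ ?_ ?_
  · simp [hQ, Cfsg.quadFormMinus]
  · simp [hQ, Cfsg.quadFormMinus]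
  · simp [hQ, polar_minus]
  · simp [hQ, polar_minus]
  · intro i j; simp [hQ, polar_minus, Pi.single_apply]; exact if_congr eq_comm rfl rfl
  · simp [hQ, polar_minus]
  · simp [hQ, polar_minus]
  · simp [hQ, Cfsg.quadFormMinus]
  · simp [hQ, Cfsg.quadFormMinus]
    intro e; exact qwne (by linear_combination e)
  · intro z hz
    have hc : QuadraticMap.polar Q (t • Pi.single (.inr 0) 1 + Pi.single (.inr 1) 1)
        (Pi.single (.inr 0) 1) / Q (Pi.single (.inr 0) 1) = 2 * t + a := by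
      simp [hQ, polar_minus, Cfsg.quadFormMinus]
    rw [hc]
    set p := z (.inr 0)
    set r := z (.inr 1)
    refine ⟨r + (p - r * t) / (2 * t + a), -((p - r * t) / (2 * t + a)), funext fun j => ?_⟩
    have h1 : (p - r * t) / (2 * t + a) * (2 * t + a) = p - r * t := div_mul_cancel₀ _ hBwu
    rcases j with (j | j) | j
    · simpa [hQ, polar_minus, Pi.single_apply] using (hz j).2
    · simpa [hQ, polar_minus, Pi.single_apply] using (hz j).1
    · fin_cases j
      · simp
        linear_combination -h1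
      · simp [r]

/-- The frame of plus type. -/
theorem frame_plus {N : ℕ} {c : F} (hc0 : c ≠ 0) (hc1 : c ≠ 1) (hc2 : c ≠ -1)
    {Q : QuadraticForm F (Fin (N + 4) ⊕ Fin (N + 4) → F)}
    (hQ : ⇑Q = Cfsg.quadFormPlus (N + 4) F) : Nonempty (Fr Q N) := by
  classical
  set l := Fin.last (N + 3)
  refine exists_frame (fun i => Pi.single (.inl i.castSucc) 1)
    (fun i => Pi.single (.inr i.castSucc) 1) ?_ ?_ ?_ ?_ ?_
    (Pi.single (.inl l) 1 + Pi.single (.inr l) 1) (Pi.single (.inl l) 1 + c • Pi.single (.inr l) 1)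
    ?_ ?_ ?_ ?_ ?_
  · simp [hQ, Cfsg.quadFormPlus]
  · simp [hQ, Cfsg.quadFormPlus]
  · simp [hQ, polar_plus]
  · simp [hQ, polar_plus]
  · intro i j; simp [hQ, polar_plus, Pi.single_apply]; exact if_congr eq_comm rfl rfl
  · intro i; simp [hQ, polar_plus, Pi.single_apply, l, (Fin.castSucc_lt_last i).ne, (Fin.castSucc_lt_last i).ne']
  · intro i; simp [hQ, polar_plus, Pi.single_apply, l, (Fin.castSucc_lt_last i).ne, (Fin.castSucc_lt_last i).ne']
  · simp [hQ, Cfsg.quadFormPlus, Pi.single_apply]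
  · simp [hQ, Cfsg.quadFormPlus, Pi.single_apply, hc0]
  · intro z hz
    have hq : QuadraticMap.polar Q (Pi.single (.inl l) 1 + c • Pi.single (.inr l) 1)
        (Pi.single (.inl l) 1 + Pi.single (.inr l) 1) /
          Q (Pi.single (.inl l) 1 + Pi.single (.inr l) 1) = 1 + c := by
      simp [hQ, polar_plus, Cfsg.quadFormPlus, Pi.single_apply, Finset.sum_add_distrib]
    rw [hq]
    set p := z (.inl l)
    set r := z (.inr l)
    have h1c : 1 + c ≠ 0 := fun e => hc2 (by linear_combination e)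
    have h2c : 1 - c ≠ 0 := sub_ne_zero.2 hc1.symm
    set d := (r - c * p) / ((1 - c) * (1 + c))
    have h1 : d * ((1 - c) * (1 + c)) = r - c * p :=
      div_mul_cancel₀ _ (mul_ne_zero h2c h1c)
    refine ⟨p - c * d, -d, funext fun j => ?_⟩
    rcases j with j | j <;> induction j using Fin.lastCases with
    | last =>
      simp [l]
      first
        | linear_combination -h1
        | ring
    | cast i =>
      first
        | simpa [hQ, polar_plus, Pi.single_apply, l, (Fin.castSucc_lt_last i).ne] using (hz i).2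
        | simpa [hQ, polar_plus, Pi.single_apply, l, (Fin.castSucc_lt_last i).ne] using (hz i).1

end CfsgLib.TwoGen.Ort
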