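import Cfsg.Agent.Lib.Classical.TwoGen.OrthBase

set_option autoImplicit false
set_option linter.unusedSectionVars false

/-!
A frame of hyperbolic pairs with a non-singular complement, and the two generators attached to it.
-/

namespace CfsgLib.TwoGen.Ort

open CfsgLib.Orth

variable {F : Type*} [Field F] {ι : Type} [Fintype ι] [DecidableEq ι]
variable {Q : QuadraticForm F (ι → F)}

local notation "B" => QuadraticMap.polar (DFunLike.coe Q)

/-- `N + 3` hyperbolic pairs indexed by a cycle, with two non-singular vectors in the complement. -/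
structure Fr (Q : QuadraticForm F (ι → F)) (N : ℕ) where
  v : ZMod (2 * (N + 3)) → ι → F
  qv : ∀ i, Q (v i) = 0
  bv : ∀ i j, QuadraticMap.polar Q (v i) (v j) = if j = i + ((N + 3 : ℕ) : ZMod _) then 1 else 0
  u : ι → F
  w : ι → F
  bu : ∀ i, QuadraticMap.polar Q (v i) u = 0
  bw : ∀ i, QuadraticMap.polar Q (v i) w = 0
  qu : Q u ≠ 0
  qw : Q w ≠ 0
  span : ∀ z, (∀ i, QuadraticMap.polar Q (v i) z = 0) →
    ∃ a b : F, z = a • w + b • (w - (QuadraticMap.polar Q w u / Q u) • u)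

variable {N : ℕ} (Φ : Fr Q N)

/-- The image of `w` under the reflection. -/
def Fr.w' : ι → F := Φ.w - (B Φ.w Φ.u / Q Φ.u) • Φ.u

theorem Fr.bw' (i) : B (Φ.v i) Φ.w' = 0 := by
  rw [Fr.w', b_sub_right, b_smul_right, Φ.bw, Φ.bu, mul_zero, sub_zero]

theorem Fr.q_w' : Q Φ.w' = Q Φ.w := by
  rw [Fr.w', q_sub, q_smul, b_smul_right]
  field_simp [Φ.qu]
  ring

theorem Fr.w'' : Φ.w' - (B Φ.w' Φ.u / Q Φ.u) • Φ.u = Φ.w := by
  have h : B Φ.w' Φ.u = -B Φ.w Φ.u := by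
    rw [Fr.w', b_sub_left, b_smul_left, b_self, mul_comm (2 : F), ← mul_assoc,
      div_mul_cancel₀ _ Φ.qu]
    ring
  rw [h, Fr.w']
  module

theorem Fr.mm : ((N + 3 : ℕ) : ZMod (2 * (N + 3))) + ((N + 3 : ℕ) : ZMod (2 * (N + 3))) = 0 := by
  rw [← Nat.cast_add, ← two_mul, ZMod.natCast_self]

theorem cast_eq_iff {a b : ℕ} (ha : a ≤ 2 * (N + 3)) (hb : b ≤ 2 * (N + 3)) :
    (a : ZMod (2 * (N + 3))) = b ↔
      a = b ∨ (a = 0 ∧ b = 2 * (N + 3)) ∨ (b = 0 ∧ a = 2 * (N + 3)) := by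
  refine ⟨fun h => ?_, ?_⟩
  · rw [ZMod.natCast_eq_natCast_iff'] at h
    rcases ha.lt_or_eq with h1 | h1 <;> rcases hb.lt_or_eq with h2 | h2
    · rw [Nat.mod_eq_of_lt h1, Nat.mod_eq_of_lt h2] at h; omega
    · rw [Nat.mod_eq_of_lt h1, h2, Nat.mod_self] at h; omega
    · rw [Nat.mod_eq_of_lt h2, h1, Nat.mod_self] at h; omega
    · omega
  · rintro (rfl | ⟨rfl, rfl⟩ | ⟨rfl, rfl⟩) <;> simp [ZMod.natCast_self]

/-- The vectors are orthogonal away from opposite indices. -/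
theorem Fr.bv_zero {a b : ℕ} (ha : a ≤ 2 * (N + 3)) (hb : b ≤ 2 * (N + 3)) (h1 : a + (N + 3) ≠ b)
    (h2 : b + (N + 3) ≠ a) : B (Φ.v a) (Φ.v b) = 0 := by
  rw [Φ.bv, if_neg]
  intro h
  rcases Nat.lt_or_ge a (N + 3) with h' | h'
  · rw [← Nat.cast_add, cast_eq_iff hb (by omega)] at h; omega
  · have e : (a : ZMod (2 * (N + 3))) + ((N + 3 : ℕ) : ZMod _) = ((a - (N + 3) : ℕ) : ZMod _) := by
      rw [Nat.cast_sub h', sub_eq_add_neg, ← eq_neg_of_add_eq_zero_left (Fr.mm (N := N))]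
    rw [e, cast_eq_iff hb (by omega)] at h; omega

theorem Fr.bv_one {a b : ℕ} (h : a + (N + 3) = b ∨ b + (N + 3) = a) : B (Φ.v a) (Φ.v b) = 1 := by
  rcases h with rfl | rfl
  · rw [Φ.bv, if_pos (Nat.cast_add _ _)]
  · rw [b_comm, Φ.bv, if_pos (Nat.cast_add _ _)]

theorem index_cases (k : ZMod (2 * (N + 3))) :
    ∃ i < N + 3, k = (i : ℕ) ∨ k = ((i + (N + 3) : ℕ) : ZMod _) := by
  have h := k.val_lt
  rcases Nat.lt_or_ge k.val (N + 3) with h1 | h1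
  · exact ⟨_, h1, Or.inl (ZMod.natCast_zmod_val k).symm⟩
  · exact ⟨k.val - (N + 3), by omega, Or.inr (by
      rw [Nat.sub_add_cancel h1, ZMod.natCast_zmod_val])⟩

/-- The element permuting the frame cyclically. -/
theorem exists_shift (hB : Nondeg Q) :
    ∃ g ∈ El Q, (∀ k, ∃ c : F, c ≠ 0 ∧ ap g (Φ.v k) = c • Φ.v (k + 1)) ∧
      (∀ i < N + 2, ap g (Φ.v (i : ℕ)) = Φ.v ((i + 1 : ℕ) : ZMod _) ∧
        ap g (Φ.v ((i + (N + 3) : ℕ) : ZMod _)) = Φ.v ((i + 1 + (N + 3) : ℕ) : ZMod _)) ∧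
      ∀ z, (∀ i, B (Φ.v i) z = 0) → ap g z = z - (B z Φ.u / Q Φ.u) • Φ.u := by
  let e : ℕ → ι → F := fun i => Φ.v (i : ℕ)
  let f : ℕ → ι → F := fun i => Φ.v ((i + (N + 3) : ℕ) : ZMod _)
  have hee : ∀ i < N + 3, ∀ j < N + 3, B (e i) (e j) = 0 := fun i hi j hj =>
    Φ.bv_zero (by omega) (by omega) (by omega) (by omega)
  have hff : ∀ i < N + 3, ∀ j < N + 3, B (f i) (f j) = 0 := fun i hi j hj =>
    Φ.bv_zero (by omega) (by omega) (by omega) (by omega)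
  have hef : ∀ i < N + 3, ∀ j < N + 3, B (e i) (f j) = if i = j then 1 else 0 := fun i hi j hj => by
    split_ifs with h
    · exact Φ.bv_one (by omega)
    · exact Φ.bv_zero (by omega) (by omega) (by omega) (by omega)
  have hfe : ∀ i < N + 3, ∀ j < N + 3, B (f i) (e j) = if i = j then 1 else 0 := fun i hi j hj => by
    rw [b_comm, hef j hj i hi]
    exact if_congr eq_comm rfl rfl
  obtain ⟨g, hg, g1, ⟨σ, hσ, g2⟩, ⟨τ, hτ, g3⟩, -, g5⟩ :=
    exists_cycle hB (fun i _ => Φ.qv _) (fun i _ => Φ.qv _) hef hee hff (N + 2) (by omega)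
  obtain ⟨s, hs, s1, s2, s3⟩ := exists_exchange hB (e := e 0) (f := f 0) (w := Φ.u) (Φ.qv _) (Φ.qv _)
    (by rw [hef 0 (by omega) 0 (by omega), if_pos rfl]) (Φ.bu _) (Φ.bu _) Φ.qu
  have sfix : ∀ i < N + 3, i ≠ 0 → ap s (e i) = e i ∧ ap s (f i) = f i := by
    intro i hi hi0
    constructor <;> rw [s3]
    · rw [show B (e i) Φ.u = 0 from Φ.bu _, zero_div, zero_smul, sub_zero]
    · exact hee i hi 0 (by omega)
    · rw [hef i hi 0 (by omega), if_neg hi0]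
    · rw [show B (f i) Φ.u = 0 from Φ.bu _, zero_div, zero_smul, sub_zero]
    · rw [hfe i hi 0 (by omega), if_neg hi0]
    · exact hff i hi 0 (by omega)
  have step : ∀ i < N + 2, ap (s * g) (e i) = e (i + 1) ∧ ap (s * g) (f i) = f (i + 1) := by
    intro i hi
    rw [ap_mul, ap_mul, (g1 i hi).1, (g1 i hi).2]
    exact sfix _ (by omega) (by omega)
  refine ⟨s * g, mul_mem hs hg, fun k => ?_, fun i hi => step i hi, fun z hz => ?_⟩
  · obtain ⟨i, hi, rfl | rfl⟩ := index_cases (N := N) k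
    · rcases Nat.lt_or_ge i (N + 2) with h | h
      · exact ⟨1, one_ne_zero, by rw [one_smul, ← Nat.cast_succ]; exact (step i h).1⟩
      · obtain rfl : i = N + 2 := by omega
        refine ⟨σ * -(Q Φ.u)⁻¹, mul_ne_zero hσ (neg_ne_zero.2 (inv_ne_zero Φ.qu)), ?_⟩
        rw [ap_mul, g2, ap_smul, s1, smul_smul]
        simp only [f, Nat.cast_add, Nat.cast_zero, zero_add]
        congr 2
        push_cast
        ring
    · rcases Nat.lt_or_ge i (N + 2) with h | h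
      · refine ⟨1, one_ne_zero, ?_⟩
        rw [one_smul]
        convert (step i h).2 using 2
        push_cast
        ring
      · obtain rfl : i = N + 2 := by omega
        refine ⟨τ * -Q Φ.u, mul_ne_zero hτ (neg_ne_zero.2 Φ.qu), ?_⟩
        rw [ap_mul, g3, ap_smul, s2, smul_smul]
        simp only [e, Nat.cast_zero]
        congr 2
        rw [← Nat.cast_succ, show (N + 2 + (N + 3)).succ = 2 * (N + 3) by omega, ZMod.natCast_self]
  · rw [ap_mul, g5 z fun i hi => ⟨by rw [b_comm]; exact hz _, by rw [b_comm]; exact hz _⟩,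
      s3 z (by rw [b_comm]; exact hz _) (by rw [b_comm]; exact hz _)]

/-- A scaling of one pair by a square. -/
theorem exists_scale (hB : Nondeg Q) {μ : F} (hμ : μ ≠ 0) :
    ∃ g ∈ El Q, ap g (Φ.v ((2 : ℕ) : ZMod _)) = (μ * μ) • Φ.v ((2 : ℕ) : ZMod _) ∧
      ap g (Φ.v ((N + 5 : ℕ) : ZMod _)) = (μ * μ)⁻¹ • Φ.v ((N + 5 : ℕ) : ZMod _) ∧
      ∀ z, B z (Φ.v ((2 : ℕ) : ZMod _)) = 0 → B z (Φ.v ((N + 5 : ℕ) : ZMod _)) = 0 → ap g z = z := by
  have hef := Φ.bv_one (a := 2) (b := N + 5) (by omega)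
  obtain ⟨s, hs, s1, s2, s3⟩ :=
    exists_exchange hB (w := Φ.u) (Φ.qv _) (Φ.qv _) hef (Φ.bu _) (Φ.bu _) Φ.qu
  have hμu : Q (μ • Φ.u) ≠ 0 := by rw [q_smul]; exact mul_ne_zero (mul_ne_zero hμ hμ) Φ.qu
  obtain ⟨t, ht, t1, t2, t3⟩ := exists_exchange hB (w := μ • Φ.u) (Φ.qv _) (Φ.qv _) hef
    (by rw [b_smul_right, Φ.bu, mul_zero]) (by rw [b_smul_right, Φ.bu, mul_zero]) hμu
  have hq := Φ.qu
  refine ⟨t * s, mul_mem ht hs, ?_, ?_, fun z hz1 hz2 => ?_⟩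
  · rw [ap_mul, s1, ap_smul, t2, smul_smul, q_smul]
    congr 1
    field_simp
  · rw [ap_mul, s2, ap_smul, t1, smul_smul, q_smul]
    congr 1
    field_simp
  · rw [ap_mul, s3 z hz1 hz2, t3]
    · rw [b_sub_left, b_smul_left, b_smul_right, b_smul_right, b_self, q_smul]
      match_scalars <;> field_simp <;> ring1
    · rw [b_sub_left, b_smul_left, b_comm Φ.u, Φ.bu, hz1, mul_zero, sub_zero]
    · rw [b_sub_left, b_smul_left, b_comm Φ.u, Φ.bu, hz2, mul_zero, sub_zero]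

/-- Two elements generating a subgroup which contains a root seed, the shift and the scaling. -/
theorem exists_gens [Fintype F] (hB : Nondeg Q) :
    ∃ a ∈ El Q, ∃ b ∈ El Q, ∀ H : Subgroup (Grp Q), a ∈ H → b ∈ H →
      ∃ μ : Fˣ, (∀ t : Fˣ, t ∈ Subgroup.zpowers μ) ∧
      ∃ g ∈ H, (∀ k, ∃ c : F, c ≠ 0 ∧ ap g (Φ.v k) = c • Φ.v (k + 1)) ∧
        (∀ i < N + 2, ap g (Φ.v (i : ℕ)) = Φ.v ((i + 1 : ℕ) : ZMod _) ∧
          ap g (Φ.v ((i + (N + 3) : ℕ) : ZMod _)) = Φ.v ((i + 1 + (N + 3) : ℕ) : ZMod _)) ∧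
        (∀ z, (∀ i, B (Φ.v i) z = 0) → ap g z = z - (B z Φ.u / Q Φ.u) • Φ.u) ∧
        Mem H (Φ.v ((0 : ℕ) : ZMod _)) (Φ.v ((N + 4 : ℕ) : ZMod _) + Φ.w) ∧
        ∃ h ∈ H, ap h (Φ.v ((2 : ℕ) : ZMod _)) = ((μ : F) * μ) • Φ.v ((2 : ℕ) : ZMod _) ∧
          ∀ z, B z (Φ.v ((2 : ℕ) : ZMod _)) = 0 → B z (Φ.v ((N + 5 : ℕ) : ZMod _)) = 0 →
            ap h z = z := by
  obtain ⟨μ, hμ⟩ := IsCyclic.exists_generator (α := Fˣ)
  obtain ⟨g, hg, g1, g2, g3⟩ := exists_shift Φ hB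
  obtain ⟨h, hh, h1, h2, h3⟩ := exists_scale Φ hB μ.ne_zero
  obtain ⟨x, hx⟩ := exists_siegel hB (Φ.qv ((0 : ℕ) : ZMod _))
    (v := Φ.v ((N + 4 : ℕ) : ZMod _) + Φ.w)
    (by rw [b_add_right, Φ.bw, Φ.bv_zero (by omega) (by omega) (by omega) (by omega), add_zero])
  have hxcomm : Commute h x := by
    have hc := siegel_conj hx h
    have hw2 : ∀ i, B Φ.w (Φ.v i) = 0 := fun i => by rw [b_comm, Φ.bw]
    rw [h3 _ (Φ.bv_zero (by omega) (by omega) (by omega) (by omega))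
        (Φ.bv_zero (by omega) (by omega) (by omega) (by omega)), ap_add,
      h3 _ (Φ.bv_zero (by omega) (by omega) (by omega) (by omega))
        (Φ.bv_zero (by omega) (by omega) (by omega) (by omega)), h3 _ (hw2 _) (hw2 _)] at hc
    exact mul_inv_eq_iff_eq_mul.1 (siegel_unique hc hx)
  set q := Fintype.card F
  have hqF : ((q - 1 : ℕ) : F) = -1 := by
    rw [Nat.cast_sub Fintype.card_pos, FiniteField.cast_card_eq_zero, Nat.cast_one, zero_sub]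
  have hμq : ((μ : F) * μ) ^ (q - 1) = 1 :=
    FiniteField.pow_card_sub_one_eq_one _ (mul_ne_zero μ.ne_zero μ.ne_zero)
  have hhq : h ^ (q - 1) = 1 := by
    have hef := Φ.bv_one (a := 2) (b := N + 5) (by omega)
    have hfe : B (Φ.v ((N + 5 : ℕ) : ZMod _)) (Φ.v ((2 : ℕ) : ZMod _)) = 1 := by rw [b_comm, hef]
    refine ext_ap fun z => ?_
    have key : ∀ (k : ℕ) (α β : F) (y : ι → F), B y (Φ.v ((2 : ℕ) : ZMod _)) = 0 →
        B y (Φ.v ((N + 5 : ℕ) : ZMod _)) = 0 →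
        ap (h ^ k) (α • Φ.v ((2 : ℕ) : ZMod _) + β • Φ.v ((N + 5 : ℕ) : ZMod _) + y) =
          (((μ : F) * μ) ^ k * α) • Φ.v ((2 : ℕ) : ZMod _) +
            ((((μ : F) * μ)⁻¹) ^ k * β) • Φ.v ((N + 5 : ℕ) : ZMod _) + y := by
      intro k
      induction k with
      | zero => intro α β y _ _; rw [pow_zero, ap_one]; simp
      | succ k ih =>
        intro α β y hy1 hy2
        have e1 : ap h (α • Φ.v ((2 : ℕ) : ZMod _) + β • Φ.v ((N + 5 : ℕ) : ZMod _) + y) =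
            (α * ((μ : F) * μ)) • Φ.v ((2 : ℕ) : ZMod _) +
              (β * ((μ : F) * μ)⁻¹) • Φ.v ((N + 5 : ℕ) : ZMod _) + y := by
          rw [ap_add, ap_add, ap_smul, ap_smul, h1, h2, h3 y hy1 hy2, smul_smul, smul_smul]
        rw [pow_succ, ap_mul, e1, ih _ _ _ hy1 hy2]
        ring_nf
    have e : z = B z (Φ.v ((N + 5 : ℕ) : ZMod _)) • Φ.v ((2 : ℕ) : ZMod _) +
        B z (Φ.v ((2 : ℕ) : ZMod _)) • Φ.v ((N + 5 : ℕ) : ZMod _) +
        (z - B z (Φ.v ((N + 5 : ℕ) : ZMod _)) • Φ.v ((2 : ℕ) : ZMod _) -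
          B z (Φ.v ((2 : ℕ) : ZMod _)) • Φ.v ((N + 5 : ℕ) : ZMod _)) := by module
    rw [ap_one, e, key _ _ _ _ ?_ ?_, inv_pow, hμq, inv_one, one_mul, one_mul]
    · rw [b_sub_left, b_sub_left, b_smul_left, b_smul_left, b_self_zero (Φ.qv _), hfe]; ring
    · rw [b_sub_left, b_sub_left, b_smul_left, b_smul_left, b_self_zero (Φ.qv _), hef]; ring
  refine ⟨h * x, mul_mem hh (siegel_mem_El hx), g, hg, fun H ha hb => ?_⟩
  have hxH : x ∈ H := by
    have h' : (h * x) ^ (q - 1) = x⁻¹ := by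
      rw [hxcomm.mul_pow, hhq, one_mul]
      have h4 := siegel_pow hx (q - 1)
      rw [hqF] at h4
      refine eq_inv_of_mul_eq_one_left ?_
      have h5 := siegel_mul h4 hx
      rw [neg_one_smul, neg_add_cancel] at h5
      exact siegel_unique h5 (siegel_one (Φ.qv _))
    have := inv_mem (pow_mem ha (q - 1))
    rwa [h', inv_inv] at this
  refine ⟨μ, hμ, g, hb, g1, g2, g3, ⟨x, hxH, hx⟩, h, ?_, h1, h3⟩
  have := mul_mem ha (inv_mem hxH)
  rwa [mul_inv_cancel_right] at this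

end CfsgLib.TwoGen.Ort
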