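import Mathlib
import Cfsg.Prelude.Def_Classical
import Cfsg.Agent.Lib.Classical.TwoGen.Connected
import Cfsg.Agent.Lib.Classical.NormalRank.Symplectic
import Cfsg.Agent.Lib.Classical.SylowLargePrimeSymp
import Cfsg.Agent.Lib.Classical.SympRegGenInit

set_option autoImplicit false

/-!
Two generators of the symplectic group.
-/

namespace CfsgLib.TwoGen

open Matrix Cfsg CfsgLib.Classical.SympTrans CfsgLib.Classical.SympRegGen
  CfsgLib.Classical.SylowLargePrimeSymp

variable {F : Type*} [Field F] {n : ℕ}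

/-- All `e`-coordinates one. -/
def allE (n : ℕ) (F : Type*) [Field F] : Fin n ⊕ Fin n → F := Sum.elim (fun _ => 1) (fun _ => 0)

theorem f_allE (u : Fin n ⊕ Fin n → F) : sympForm n F u (allE n F) = ∑ i, u (.inr i) := by
  rw [f_apply]; simp [allE]

theorem f_neg_left' (u v : Fin n ⊕ Fin n → F) : sympForm n F (-u) v = -sympForm n F u v := by
  rw [← neg_one_smul F u, f_smul_left, neg_one_mul]

theorem app_top (π : Equiv.Perm (Fin n)) (u : Fin n ⊕ Fin n → F) (a : Fin n ⊕ Fin n) :
    app (NormalRank.spTop π) u (NormalRank.spPerm π a) = u a := by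
  show (NormalRank.pm (NormalRank.spPerm π) *ᵥ u) _ = u a
  rw [Matrix.mulVec, dotProduct, Finset.sum_eq_single a]
  · simp [NormalRank.pm_apply]
  · intro b _ hb
    rw [NormalRank.pm_apply, if_neg fun e => hb ((Equiv.injective _) e).symm, zero_mul]
  · intro h; exact absurd (Finset.mem_univ _) h

theorem app_top_E (π : Equiv.Perm (Fin n)) {k : ℕ} (hk : k < n) :
    app (NormalRank.spTop π) (E k : Fin n ⊕ Fin n → F) = E (π ⟨k, hk⟩ : ℕ) := by
  funext j
  obtain ⟨a, rfl⟩ := (NormalRank.spPerm π).surjective j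
  rw [app_top]
  rcases a with a | a
  · simp only [NormalRank.spPerm, MonoidHom.coe_mk, OneHom.coe_mk, Equiv.sumCongr_apply, Sum.map_inl,
      E_inl, Fin.val_eq_val]
    simp [Fin.ext_iff]
  · simp [NormalRank.spPerm, E_inr]

theorem app_top_F (π : Equiv.Perm (Fin n)) {k : ℕ} (hk : k < n) :
    app (NormalRank.spTop π) (Fv k : Fin n ⊕ Fin n → F) = Fv (π ⟨k, hk⟩ : ℕ) := by
  funext j
  obtain ⟨a, rfl⟩ := (NormalRank.spPerm π).surjective j
  rw [app_top]
  rcases a with a | a
  · simp [NormalRank.spPerm, Fv_inl]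
  · simp only [NormalRank.spPerm, MonoidHom.coe_mk, OneHom.coe_mk, Equiv.sumCongr_apply, Sum.map_inr,
      Fv_inr, Fin.val_eq_val]
    simp [Fin.ext_iff]

theorem app_top_allE (π : Equiv.Perm (Fin n)) : app (NormalRank.spTop π) (allE n F) = allE n F := by
  funext j
  obtain ⟨a, rfl⟩ := (NormalRank.spPerm π).surjective j
  rw [app_top]
  rcases a with a | a <;> simp [NormalRank.spPerm, allE]

/-- A Coxeter element: `e_{k+1} ↦ e_k`, `f_{k+1} ↦ f_k`, `e_0 ↦ f_last`, `f_0 ↦ -e_last`. -/
theorem exists_coxeter (hn : 0 < n) : ∃ w : Matrix.symplecticGroup (Fin n) F,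
    (∀ k, k + 1 < n → app w (E (k + 1)) = E k) ∧ (∀ k, k + 1 < n → app w (Fv (k + 1)) = Fv k) ∧
    app w (E 0) = Fv (n - 1) ∧ app w (Fv 0) = -E (n - 1) ∧
    app w (allE n F) = allE n F - E (n - 1) + Fv (n - 1) := by
  obtain ⟨l, rfl⟩ : ∃ l, n = l + 1 := ⟨n - 1, by omega⟩
  let π : Equiv.Perm (Fin (l + 1)) := (finRotate (l + 1)).symm
  have hπ : ∀ k, ∀ h : k + 1 < l + 1, π ⟨k + 1, h⟩ = ⟨k, by omega⟩ := fun k h => by
    show (finRotate (l + 1)).symm _ = _
    rw [Equiv.symm_apply_eq, finRotate_of_lt (by omega)]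
  have hπ0 : π ⟨0, by omega⟩ = ⟨l, by omega⟩ := by
    show (finRotate (l + 1)).symm _ = _
    rw [Equiv.symm_apply_eq, finRotate_last']
  let σ : Matrix.symplecticGroup (Fin (l + 1)) F :=
    T (E 0) (-1) * T (Fv 0) (-1) * T (E 0) (-1)
  have hσ : ∀ u, sympForm (l + 1) F u (E 0) = 0 → sympForm (l + 1) F u (Fv 0) = 0 → app σ u = u := by
    intro u h1 h2
    simp [σ, app_mul, app_T, h1, h2]
  have hσE : app σ (E 0) = Fv 0 := by
    simp [σ, app_mul, app_T, f_add_left, f_smul_left, f_EE, f_FF, f_EF _ _ (show 0 < l + 1 by omega),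
      f_FE _ _ (show 0 < l + 1 by omega)]
  have hσF : app σ (Fv 0) = -E 0 := by
    simp [σ, app_mul, app_T, f_add_left, f_sub_left, f_smul_left, f_neg_left', f_EE, f_FF,
      f_EF _ _ (show 0 < l + 1 by omega), f_FE _ _ (show 0 < l + 1 by omega)]
  refine ⟨NormalRank.spTop π * σ, fun k hk => ?_, fun k hk => ?_, ?_, ?_, ?_⟩
  · rw [app_mul, hσ _ (f_EE _ _) (by rw [f_EF _ _ (by omega), if_neg (by omega)]), app_top_E π hk, hπ]
  · rw [app_mul, hσ _ (by rw [f_FE _ _ (by omega), if_neg (by omega)]) (f_FF _ _), app_top_F π hk, hπ]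
  · rw [app_mul, hσE, app_top_F π (show 0 < l + 1 by omega), hπ0]; rfl
  · rw [app_mul, hσF, ← neg_one_smul F (E 0 : Fin (l + 1) ⊕ Fin (l + 1) → F), app_smul,
      app_top_E π (show 0 < l + 1 by omega), hπ0, neg_one_smul]; rfl
  · have e : (allE (l + 1) F) = (allE (l + 1) F - E 0) + E 0 := by abel
    have hfix : app σ (allE (l + 1) F - E 0) = allE (l + 1) F - E 0 := by
      refine hσ _ ?_ ?_
      · rw [f_E (by omega)]; simp [allE, E_inr]
      · rw [f_Fv (by omega)]; simp [allE, E_inl]
    conv_lhs => rw [e, app_mul, app_add, hfix, hσE, app_add, app_sub, app_top_allE,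
      app_top_E π (show 0 < l + 1 by omega), app_top_F π (show 0 < l + 1 by omega), hπ0]
    simp

theorem app_levi_inl (A : GL (Fin n) F) (u : Fin n ⊕ Fin n → F) (hu : ∀ i, u (.inr i) = 0) :
    app (levi A) u = Sum.elim ((A : Matrix (Fin n) (Fin n) F) *ᵥ (u ∘ Sum.inl)) 0 := by
  show fromBlocks (A : Matrix (Fin n) (Fin n) F) 0 0 _ *ᵥ u = _
  rw [fromBlocks_mulVec]
  have h : u ∘ Sum.inr = 0 := funext hu
  simp [h]

theorem E_comp (k : ℕ) (hk : k < n) :
    (E k : Fin n ⊕ Fin n → F) ∘ Sum.inl = Pi.single ⟨k, hk⟩ 1 := by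
  funext j
  simp [E_inl, Pi.single_apply, Fin.ext_iff]

theorem T_pow (u : Fin n ⊕ Fin n → F) (c : F) (j : ℕ) : T u c ^ j = T u ((j : F) * c) := by
  induction j with
  | zero => simp [T_zero]
  | succ j ih => rw [pow_succ, ih, T_mul]; push_cast; ring_nf

theorem T_commute_of_fix {g : Matrix.symplecticGroup (Fin n) F} {u : Fin n ⊕ Fin n → F}
    (h : app g u = u) (c : F) : Commute (T u c) g :=
  (mul_inv_eq_iff_eq_mul.1 (by rw [conj_T, h])).symm

variable [Fintype F]

theorem two_gen_big (hn : 2 ≤ n) (hq : 2 < Fintype.card F) :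
    ∃ a b : Matrix.symplecticGroup (Fin n) F, Subgroup.closure ({a, b} : Set _) = ⊤ := by
  classical
  obtain ⟨g, hg⟩ := IsCyclic.exists_monoid_generator (α := Fˣ)
  obtain ⟨w, hwE, hwF, hwE0, hwF0, hwv⟩ := exists_coxeter (F := F) (n := n) (by omega)
  set v := allE n F with hv
  let d : (Fin n → Fˣ) →* GL (Fin n) F :=
    ((Matrix.diagonalRingHom (Fin n) F).toMonoidHom.comp
      ((Units.coeHom F).compLeft (Fin n))).toHomUnits
  set h := levi (d (Pi.mulSingle (⟨1, by omega⟩ : Fin n) g)) with hh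
  have hhE : ∀ k, ∀ hk : k < n, app h (E k) = (if k = 1 then (g : F) else 1) • E k := by
    intro k hk
    rw [app_levi_inl _ _ (fun i => E_inr k i), E_comp k hk]
    funext j
    rcases j with j | j
    · show ((Matrix.diagonal fun i => ((Pi.mulSingle (⟨1, by omega⟩ : Fin n) g : Fin n → Fˣ) i : F)) *ᵥ
        Pi.single ⟨k, hk⟩ 1) j = _
      rw [Matrix.mulVec_diagonal, Pi.smul_apply, smul_eq_mul, E_inl]
      by_cases hjk : (j : ℕ) = k
      · have e : j = ⟨k, hk⟩ := Fin.ext hjk
        subst e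
        rw [Pi.single_eq_same, mul_one, if_pos rfl, mul_one]
        by_cases h1 : k = 1
        · subst h1; simp
        · rw [if_neg h1, Pi.mulSingle_eq_of_ne (by simp [Fin.ext_iff, h1])]; rfl
      · rw [Pi.single_eq_of_ne (by simp [Fin.ext_iff, hjk]), if_neg hjk, mul_zero, mul_zero]
    · simp [E_inr]
  set b := T v 1 * w with hb
  set a := T (E 0) 1 * h with ha
  set H := Subgroup.closure ({a, b} : Set (Matrix.symplecticGroup (Fin n) F)) with hH
  refine ⟨a, b, ?_⟩
  have haH : a ∈ H := Subgroup.subset_closure (by simp)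
  have hbH : b ∈ H := Subgroup.subset_closure (by simp)
  have hfix : app h (E 0) = E 0 := by rw [hhE 0 (by omega), if_neg (by omega), one_smul]
  -- the two factors of the first generator
  have hT : T (E 0) (1 : F) ∈ H := by
    have e : a ^ (Fintype.card F - 1) = T (E 0) (-1) := by
      rw [ha, (T_commute_of_fix hfix 1).mul_pow, hh, ← map_pow, ← map_pow, ← Pi.mulSingle_pow,
        ← Fintype.card_units, pow_card_eq_one, Pi.mulSingle_one, map_one, map_one, mul_one, T_pow,
        Fintype.card_units, Nat.cast_sub Fintype.card_pos, FiniteField.cast_card_eq_zero, Nat.cast_one,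
        zero_sub, mul_one]
    have := pow_mem haH (Fintype.card F - 1)
    rw [e] at this
    simpa [T_inv] using inv_mem this
  have hhH : h ∈ H := by
    have := mul_mem (inv_mem hT) haH
    rwa [ha, inv_mul_cancel_left] at this
  have hvv : ∀ k, sympForm n F (E k) v = 0 := fun k => by rw [f_allE]; simp [E_inr]
  have hvF : ∀ k, k < n → sympForm n F (Fv k) v = 1 := fun k hk => by
    rw [f_allE, Finset.sum_eq_single ⟨k, hk⟩]
    · simp [Fv_inr]
    · intro i _ hi; simp [Fv_inr, Fin.ext_iff.not.1 hi]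
    · intro hi; exact absurd (Finset.mem_univ _) hi
  have hbE : ∀ k, k + 1 < n → app b (E (k + 1)) = E k := fun k hk => by
    rw [hb, app_mul, hwE k hk, app_T, hvv, mul_zero, zero_smul, add_zero]
  have hbE0 : app b (E 0) = Fv (n - 1) + v := by
    rw [hb, app_mul, hwE0, app_T, hvF _ (by omega), one_mul, one_smul]
  have hbF : ∀ k, k + 1 < n → app b (Fv (k + 1)) = Fv k + v := fun k hk => by
    rw [hb, app_mul, hwF k hk, app_T, hvF _ (by omega), one_mul, one_smul]
  have hsv0 : SV H (E 0) := by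
    set h' := b * h * b⁻¹ with hh'
    have hh'H : h' ∈ H := conj_mem hbH hhH
    have e0 : app h' (E 0) = (g : F) • E 0 := by
      conv_lhs => rw [← hbE 0 (by omega), hh', app_mul, app_mul, app_inv, hhE _ (by omega), app_smul,
        hbE 0 (by omega)]
      simp
    intro c
    refine eq_univ_of_sq (A0 H (E 0)) g hg (fun k => ?_) c
    have hk : ∀ k : ℕ, app (h' ^ k) (E 0) = (g : F) ^ k • E 0 := by
      intro k
      induction k with
      | zero => rw [pow_zero, pow_zero, app_one, one_smul]
      | succ k ih => rw [pow_succ, app_mul, e0, app_smul, ih, smul_smul, pow_succ']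
    show T (E 0) _ ∈ H
    have := conj_mem (pow_mem hh'H k) hT
    rwa [conj_T, hk, T_smul, mul_one] at this
  have hsvE : ∀ k, k < n → SV H (E k) := by
    intro k
    induction k with
    | zero => exact fun _ => hsv0
    | succ k ih => intro hk; exact sv_back hbH (by rw [hbE k hk]; exact ih (by omega))
  set x := app b (E 0) with hx
  have hsvx : ∀ i : ℕ, SV H (app (b ^ i) x) := fun i => sv_conj (pow_mem hbH i) (sv_conj hbH hsv0)
  have hbpow : ∀ i k, k + i < n → app (b ^ i) (E (k + i)) = E k := by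
    intro i
    induction i with
    | zero => intro k _; rw [pow_zero, app_one, add_zero]
    | succ i ih =>
      intro k hk
      rw [pow_succ', app_mul, show k + (i + 1) = k + 1 + i by omega, ih (k + 1) (by omega),
        hbE k (by omega)]
  have hbv : app b v = v - E (n - 1) + Fv (n - 1) + v := by
    rw [hb, app_mul, hv, hwv, app_T, ← hv, f_add_left, f_sub_left, f_self, hvv, hvF _ (by omega)]
    simp
  have hx1 : sympForm n F x (E (n - 1)) = 1 := by
    rw [hbE0, f_add_left, f_FE _ _ (by omega), if_pos rfl, f_E (by omega)]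
    simp [hv, allE]
  have hbx : app b x = Fv (n - 2) + v + (v - E (n - 1) + Fv (n - 1) + v) := by
    rw [hbE0, app_add, show n - 1 = n - 2 + 1 by omega, hbF _ (by omega), hbv,
      show n - 2 + 1 = n - 1 by omega]
  have hbx1 : sympForm n F (app b x) (E (n - 1)) = 1 := by
    rw [hbx, f_E (by omega)]
    simp [hv, allE, E_inr, Fv_inr, show ¬ n - 1 = n - 2 by omega]
  have hbx2 : sympForm n F (app b x) (E (n - 2)) = 1 := by
    rw [hbx, f_E (by omega)]
    simp [hv, allE, E_inr, Fv_inr, show ¬ n - 2 = n - 1 by omega]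
  set Γ : Set (Fin n ⊕ Fin n → F) := {u | (∃ k, k < n ∧ u = E k) ∨ ∃ i, i < n ∧ u = app (b ^ i) x}
  have hE' : ∀ k, k < n → (E k : Fin n ⊕ Fin n → F) ∈ Γ := fun k hk => Or.inl ⟨k, hk, rfl⟩
  have hX' : ∀ i, i < n → app (b ^ i) x ∈ Γ := fun i hi => Or.inr ⟨i, hi, rfl⟩
  refine eq_top_of_connected ?_ Γ ?_ ?_ ?_
  · obtain ⟨t, ht⟩ : ∃ t : F, t ∉ ({0, 1} : Finset F) := by
      refine not_forall.1 fun h => ?_
      have := Finset.card_le_card (s := Finset.univ) (t := ({0, 1} : Finset F)) fun t _ => h t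
      rw [Finset.card_univ] at this
      have := Finset.card_le_two (a := (0 : F)) (b := 1)
      omega
    simp only [Finset.mem_insert, Finset.mem_singleton, not_or] at ht
    exact ⟨t, ht⟩
  · rintro u (⟨k, hk, rfl⟩ | ⟨i, hi, rfl⟩)
    · exact hsvE k hk
    · exact hsvx i
  · let W : ℕ → Submodule F (Fin n ⊕ Fin n → F) := fun i =>
      Submodule.span F {u | (∃ k, k < n ∧ u = E k) ∨ ∃ j, j ≤ i ∧ u = app (b ^ j) x}
    have hWE : ∀ i k, k < n → (E k : Fin n ⊕ Fin n → F) ∈ W i := fun i k hk =>
      Submodule.subset_span (Or.inl ⟨k, hk, rfl⟩)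
    have hWv : ∀ i, v ∈ W i := fun i => by
      have e : v = ∑ k ∈ Finset.range n, E k := by
        funext j
        rw [Finset.sum_apply]
        rcases j with j | j
        · simp [hv, allE, E_inl]
        · simp [hv, allE, E_inr]
      rw [e]
      exact Submodule.sum_mem _ fun k hk => hWE i k (Finset.mem_range.1 hk)
    let B : (Fin n ⊕ Fin n → F) →ₗ[F] (Fin n ⊕ Fin n → F) :=
      Matrix.mulVecLin (b : Matrix (Fin n ⊕ Fin n) (Fin n ⊕ Fin n) F)
    have hB : ∀ i, ∀ u ∈ W i, app b u ∈ W (i + 1) := by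
      intro i u hu
      have : (W i).map B ≤ W (i + 1) := by
        rw [Submodule.map_span_le]
        rintro u (⟨k, hk, rfl⟩ | ⟨j, hj, rfl⟩)
        · rcases k with _ | k
          · exact Submodule.subset_span (Or.inr ⟨0, Nat.zero_le _, by rw [pow_zero, app_one]; rfl⟩)
          · show app b (E (k + 1)) ∈ _
            rw [hbE k hk]; exact hWE _ k (by omega)
        · refine Submodule.subset_span (Or.inr ⟨j + 1, by omega, ?_⟩)
          show app b _ = _
          rw [pow_succ']
          exact (app_mul b (b ^ j) x).symm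
      exact this (Submodule.mem_map_of_mem hu)
    have hFW : ∀ i, i < n → (Fv (n - 1 - i) : Fin n ⊕ Fin n → F) ∈ W i := by
      intro i
      induction i with
      | zero =>
        intro _
        have hxW : x ∈ W 0 := Submodule.subset_span (Or.inr ⟨0, le_rfl, by rw [pow_zero, app_one]⟩)
        have := Submodule.sub_mem _ hxW (hWv 0)
        rwa [hbE0, add_sub_cancel_right] at this
      | succ i ih =>
        intro hi
        have := Submodule.sub_mem _ (hB i _ (ih (by omega))) (hWv (i + 1))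
        rwa [show n - 1 - i = (n - 1 - (i + 1)) + 1 by omega, hbF _ (by omega), add_sub_cancel_right]
          at this
    have hWΓ : ∀ i, i < n → W i ≤ Submodule.span F Γ := fun i hi => Submodule.span_mono (by
      rintro u (h | ⟨j, hj, h⟩)
      · exact Or.inl h
      · exact Or.inr ⟨j, by omega, h⟩)
    refine eq_top_iff.2 fun u _ => ?_
    rw [pi_eq_sum_univ u]
    refine Submodule.sum_mem _ fun j _ => Submodule.smul_mem _ _ ?_
    rcases j with j | j
    · have e : (E (j : ℕ) : Fin n ⊕ Fin n → F) = fun k => if Sum.inl j = k then 1 else 0 := by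
        funext k; rcases k with k | k <;> simp [E_inl, E_inr, Fin.ext_iff, eq_comm]
      rw [← e]; exact Submodule.subset_span (hE' _ j.2)
    · have e : (Fv (j : ℕ) : Fin n ⊕ Fin n → F) = fun k => if Sum.inr j = k then 1 else 0 := by
        funext k; rcases k with k | k <;> simp [Fv_inl, Fv_inr, Fin.ext_iff, eq_comm]
      rw [← e]
      have := hFW (n - 1 - j) (by omega)
      rw [show n - 1 - (n - 1 - (j : ℕ)) = j by omega] at this
      exact hWΓ _ (by omega) this
  · set r := fun p q : Fin n ⊕ Fin n → F => p ∈ Γ ∧ q ∈ Γ ∧ sympForm n F p q ≠ 0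
    have hsymm : Symmetric r := fun p q h => ⟨h.2.1, h.1, by rw [f_swap]; exact neg_ne_zero.2 h.2.2⟩
    have e1 : ∀ i, i < n → r (E (n - 1 - i)) (app (b ^ i) x) := fun i hi => hsymm ⟨hX' i hi, hE' _ (by omega), by
      conv_lhs => rw [← hbpow i (n - 1 - i) (by omega), show n - 1 - i + i = n - 1 by omega, f_app, hx1]
      exact one_ne_zero⟩
    have e2 : ∀ i, i + 1 < n → r (E (n - 1 - i)) (app (b ^ (i + 1)) x) := fun i hi =>
      hsymm ⟨hX' _ hi, hE' _ (by omega), by
        conv_lhs => rw [← hbpow i (n - 1 - i) (by omega), show n - 1 - i + i = n - 1 by omega,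
          pow_succ, app_mul, f_app, hbx1]
        exact one_ne_zero⟩
    have e3 : ∀ i, i + 1 < n → r (app (b ^ (i + 1)) x) (E (n - 2 - i)) := fun i hi =>
      ⟨hX' _ hi, hE' _ (by omega), by
        conv_lhs => rw [← hbpow i (n - 2 - i) (by omega), show n - 2 - i + i = n - 2 by omega,
          pow_succ, app_mul, f_app, hbx2]
        exact one_ne_zero⟩
    have hroot : ∀ i, i < n → Relation.ReflTransGen r (E (n - 1)) (E (n - 1 - i)) := by
      intro i
      induction i with
      | zero => exact fun _ => Relation.ReflTransGen.refl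
      | succ i ih =>
        intro hi
        rw [show n - 1 - (i + 1) = n - 2 - i by omega]
        exact ((ih (by omega)).tail (e2 i hi)).tail (e3 i hi)
    have hto : ∀ u ∈ Γ, Relation.ReflTransGen r (E (n - 1)) u := by
      rintro u (⟨k, hk, rfl⟩ | ⟨i, hi, rfl⟩)
      · have := hroot (n - 1 - k) (by omega)
        rwa [show n - 1 - (n - 1 - k) = k by omega] at this
      · exact (hroot i hi).tail (e1 i hi)
    intro p hp q hq
    haveI : Std.Symm r := ⟨hsymm⟩
    exact (Std.Symm.symm (r := Relation.ReflTransGen r) _ _ (hto p hp)).trans (hto q hq)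

theorem two_gen_two (hn : 3 ≤ n) (hq : Fintype.card F = 2) :
    ∃ a b : Matrix.symplecticGroup (Fin n) F, Subgroup.closure ({a, b} : Set _) = ⊤ := by
  classical
  have h01 : ∀ c : F, c = 0 ∨ c = 1 := by
    intro c
    by_contra h
    push_neg at h
    have h3 : ({0, 1, c} : Finset F).card = 3 := Finset.card_eq_three.2
      ⟨0, 1, c, zero_ne_one, h.1.symm, h.2.symm, rfl⟩
    have := Finset.card_le_univ ({0, 1, c} : Finset F)
    omega
  have h2 : (2 : F) = 0 := by
    rw [show (2 : F) = ((Fintype.card F : ℕ) : F) by rw [hq]; norm_num]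
    exact FiniteField.cast_card_eq_zero F
  let i₁ : Fin n := ⟨1, by omega⟩
  let i₂ : Fin n := ⟨2, by omega⟩
  let f : (Fin n → F) →ₗ[F] (Fin n → F) :=
    { toFun := fun u i => if i = i₁ then u i₂ else if i = i₂ then u i₁ + u i₂ else u i
      map_add' := fun u u' => by
        funext i; simp only [Pi.add_apply]; split_ifs <;> ring
      map_smul' := fun c u => by
        funext i; simp only [Pi.smul_apply, smul_eq_mul, RingHom.id_apply]; split_ifs <;> ring }
  have hfa : ∀ u i, f u i = if i = i₁ then u i₂ else if i = i₂ then u i₁ + u i₂ else u i := fun u i => rfl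
  have h12 : i₂ ≠ i₁ := by simp [i₁, i₂, Fin.ext_iff]
  have hf3 : ∀ u, f (f (f u)) = u := fun u => by
    funext i
    by_cases ha : i = i₁
    · subst ha; simp [hfa, h12]; linear_combination (u i₂) * h2
    by_cases hb : i = i₂
    · subst hb; simp [hfa, h12]; linear_combination (u i₁ + u i₂) * h2
    simp [hfa, ha, hb]
  have hM : LinearMap.toMatrix' f * (LinearMap.toMatrix' f * LinearMap.toMatrix' f) = 1 := by
    rw [← LinearMap.toMatrix'_comp, ← LinearMap.toMatrix'_comp, ← LinearMap.toMatrix'_id]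
    exact congrArg _ (LinearMap.ext hf3)
  let A : GL (Fin n) F := ⟨LinearMap.toMatrix' f, LinearMap.toMatrix' f * LinearMap.toMatrix' f, hM,
    by rw [mul_assoc]; exact hM⟩
  have hA3 : A ^ 3 = 1 := Units.ext (by
    show LinearMap.toMatrix' f ^ 3 = 1
    rw [pow_succ', sq]; exact hM)
  set τ := levi A with hτ
  have hτE : ∀ k, ∀ hk : k < n, app τ (E k) = Sum.elim (f (Pi.single ⟨k, hk⟩ 1)) 0 := fun k hk => by
    rw [app_levi_inl _ _ (fun i => E_inr k i), E_comp k hk]
    show Sum.elim (LinearMap.toMatrix' f *ᵥ _) 0 = _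
    rw [← Matrix.toLin'_apply, Matrix.toLin'_toMatrix']
  obtain ⟨w, hwE, hwF, hwE0, -, -⟩ := exists_coxeter (F := F) (n := n) (by omega)
  set a := T (E 0) 1 * τ with ha
  set H := Subgroup.closure ({a, w} : Set (Matrix.symplecticGroup (Fin n) F)) with hH
  refine ⟨a, w, ?_⟩
  have haH : a ∈ H := Subgroup.subset_closure (by simp)
  have hwH : w ∈ H := Subgroup.subset_closure (by simp)
  have hτ0 : app τ (E 0) = E 0 := by
    rw [hτE 0 (by omega)]
    funext j
    rcases j with j | j
    · rw [Sum.elim_inl, hfa, E_inl]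
      by_cases hj : (j : ℕ) = 0
      · simp [i₁, i₂, Fin.ext_iff, hj, Pi.single_apply]
      · simp [i₁, i₂, Fin.ext_iff, hj, Pi.single_apply]
    · simp [E_inr]
  have hT : T (E 0) (1 : F) ∈ H := by
    have e : a ^ 3 = T (E 0) 1 := by
      rw [ha, (T_commute_of_fix hτ0 1).mul_pow, hτ, ← map_pow, hA3, map_one, mul_one, T_pow]
      congr 1
      push_cast
      linear_combination h2
    exact e ▸ pow_mem haH 3
  have hτH : τ ∈ H := by
    have := mul_mem (inv_mem hT) haH
    rwa [ha, inv_mul_cancel_left] at this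
  have hsv : ∀ u, T u (1 : F) ∈ H → SV H u := fun u hu c => by
    rcases h01 c with rfl | rfl
    · rw [T_zero]; exact one_mem _
    · exact hu
  have hE : ∀ k, k < n → SV H (E k) := by
    intro k
    induction k with
    | zero => exact fun _ => hsv _ hT
    | succ k ih => intro hk; exact sv_back hwH (by rw [hwE k hk]; exact ih (by omega))
  have hFt : ∀ t, t < n → SV H (Fv (n - 1 - t)) := by
    intro t
    induction t with
    | zero => exact fun _ => hwE0 ▸ sv_conj hwH (hE 0 (by omega))
    | succ t ih =>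
      intro ht
      have := sv_conj hwH (ih (by omega))
      rwa [show n - 1 - t = n - 1 - (t + 1) + 1 by omega, hwF _ (by omega)] at this
  refine eq_top_of_basis hE (fun k hk => ?_) ?_
  · have := hFt (n - 1 - k) (by omega)
    rwa [show n - 1 - (n - 1 - k) = k by omega] at this
  have h1 : SV H (E 1 + E 2) := by
    have := sv_conj hτH (hE 2 (by omega))
    rw [hτE 2 (by omega)] at this
    convert this using 1
    funext j
    rcases j with j | j
    · rw [Sum.elim_inl, hfa, Pi.add_apply, E_inl, E_inl]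
      by_cases hj1 : (j : ℕ) = 1
      · simp [i₁, i₂, Fin.ext_iff, hj1, Pi.single_apply]
      · by_cases hj2 : (j : ℕ) = 2 <;> simp [i₁, i₂, Fin.ext_iff, hj1, hj2, Pi.single_apply]
    · simp [E_inr]
  have h0 : SV H (E 0 + E 1) := by
    have := sv_conj hwH h1
    rwa [app_add, hwE 0 (by omega), hwE 1 (by omega)] at this
  intro k
  induction k with
  | zero => exact fun _ => h0
  | succ k ih =>
    intro hk
    refine sv_back hwH ?_
    rw [app_add, hwE k (by omega), hwE (k + 1) hk]
    exact ih (by omega)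

theorem two_gen (hn : 2 ≤ n) (hF : n = 2 → 2 < Fintype.card F) :
    ∃ a b : Matrix.symplecticGroup (Fin n) F, Subgroup.closure ({a, b} : Set _) = ⊤ := by
  by_cases h : 2 < Fintype.card F
  · exact two_gen_big hn h
  · refine two_gen_two ?_ (by have := Fintype.one_lt_card (α := F); omega)
    by_contra h3
    exact h (hF (by omega))

end CfsgLib.TwoGen
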