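import Cfsg.Agent.Lib.Classical.TwoGen.UnitaryFrame

set_option autoImplicit false

/-!
Two elements generating `SU_n(q)` for `n ≥ 4`: a diagonal element and an elation times a monomial one.
-/

namespace CfsgLib.TwoGen.Unit

open Matrix Cfsg CfsgLib.Classical.Herm CfsgLib.Classical.Elation
open CfsgLib.ClassicalAut (Unitary.Conj Unitary.herm_apply)

variable {F : Type*} [Field F] [Finite F] {q : ℕ} {K : Unitary.Conj F q} (B : Pair K) {N : ℕ}

/-- The vector `e`. -/
def ev : Fin (N + 2) → F := vec B 1 0 0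

/-- The vector `f`. -/
def fv : Fin (N + 2) → F := vec B 0 1 0

/-- The frame part. -/
def zv : (Fin N → F) →+ (Fin (N + 2) → F) where
  toFun := vec B 0 0
  map_zero' := by funext i; refine Fin.cases ?_ (fun j => Fin.cases ?_ (fun k => ?_) j) i <;> simp [vec]
  map_add' x y := by rw [vec_add, add_zero]

theorem zv_apply (γ : Fin N → F) : zv B γ = vec B 0 0 γ := rfl

theorem smul_zv (a : F) (γ : Fin N → F) : a • zv B γ = zv B (a • γ) := by
  rw [zv_apply, zv_apply, vec_smul, mul_zero]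

theorem smul_ev (a : F) : a • (ev B : Fin (N + 2) → F) = vec B a 0 0 := by
  rw [ev, vec_smul, mul_one, mul_zero, smul_zero]

theorem smul_fv (a : F) : a • (fv B : Fin (N + 2) → F) = vec B 0 a 0 := by
  rw [fv, vec_smul, mul_one, mul_zero, smul_zero]

theorem h_ev (α β : F) (γ : Fin N → F) : hermForm (N + 2) F q (vec B α β γ) (ev B) = β := by
  simp [ev, h_vec]

theorem h_fv (α β : F) (γ : Fin N → F) : hermForm (N + 2) F q (vec B α β γ) (fv B) = α := by
  simp [fv, h_vec]

theorem h_zv (α β : F) (γ γ' : Fin N → F) :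
    hermForm (N + 2) F q (vec B α β γ) (zv B γ') = ∑ i, γ i * K.bar (γ' i) := by
  simp [zv_apply, h_vec]

theorem he : hermForm (N + 2) F q (ev B) (ev B) = 0 := h_ev B 1 0 0

/-- The frame parameters of the elations at `e`. -/
abbrev Pz (H : Subgroup (SU (N + 2) F q)) : AddSubgroup (Fin N → F) :=
  (pars K H (he B)).comap (zv B)

variable {H : Subgroup (SU (N + 2) F q)}

/-- Every scalar multiple of the `i`-th frame vector is a parameter. -/
def Full (H : Subgroup (SU (N + 2) F q)) (i : Fin N) : Prop := ∀ δ : F, Pi.single i δ ∈ Pz B H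

theorem pars_step {g : SU (N + 2) F q} (hg : g ∈ H) {c : F} (hc : c ≠ 0)
    (hge : app g (ev B) = c • ev B) {y : Fin (N + 2) → F} (hy : y ∈ pars K H (he B)) :
    K.bar c • app g y ∈ pars K H (he B) := by
  obtain ⟨g', hg', t, h⟩ := hy
  refine ⟨g * g' * g⁻¹, mul_mem (mul_mem hg hg') (inv_mem hg), c * K.bar c * t, ?_⟩
  have h1 := sg_conj K h g
  rw [hge] at h1
  refine sg_smul K c h1 (he B) ?_
  have h2 := h1.2.1
  rw [h_smul_right K] at h2
  exact (mul_eq_zero.1 h2).resolve_left ((map_ne_zero K.bar).2 hc)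

/-- Elements inside the subgroup acting diagonally. -/
def Diag (a : SU (N + 2) F q) (u : F) (c : Fin N → F) : Prop :=
  ∀ α β γ, app a (vec B α β γ) = vec B (u * α) ((K.bar u)⁻¹ * β) fun i => c i * γ i

theorem diag_step {a : SU (N + 2) F q} (ha : a ∈ H) {u : F} {c : Fin N → F} (hu : u ≠ 0)
    (hA : Diag B a u c) {γ : Fin N → F} (hγ : γ ∈ Pz B H) :
    (fun i => K.bar u * c i * γ i) ∈ Pz B H := by
  have h := pars_step B ha hu (by rw [smul_ev, ev, hA]; congr 1 <;> simp <;> funext i <;> simp) hγ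
  rw [zv_apply, hA, vec_smul] at h
  simp only [mul_zero] at h
  show vec B 0 0 _ ∈ pars K H (he B)
  convert h using 2
  funext i
  simp [mul_assoc]

/-- The scalars fixed by the involution act on the parameters. -/
theorem fixed_step {a : SU (N + 2) F q} (ha : a ∈ H) {u : Fˣ} (hu : orderOf u = q ^ 2 - 1)
    {c : Fin N → F} (hc : ∀ i, c i * K.bar (c i) = 1) (hA : Diag B a u c) {κ : F}
    (hκ : K.bar κ = κ) {γ : Fin N → F} (hγ : γ ∈ Pz B H) : κ • γ ∈ Pz B H := by
  rcases eq_or_ne κ 0 with rfl | hκ0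
  · rw [zero_smul]; exact zero_mem _
  have h2 := K.two_le
  have hgen : Subgroup.zpowers u = ⊤ := Subgroup.eq_top_of_card_eq _ (by
    rw [Nat.card_zpowers, hu, Nat.card_units, K.card])
  obtain ⟨j, hj⟩ := Submonoid.mem_powers_iff _ _ |>.1 (mem_powers_iff_mem_zpowers.2
    (show Units.mk0 κ hκ0 ∈ Subgroup.zpowers u from hgen ▸ Subgroup.mem_top _))
  have hdvd : (q + 1) ∣ j := by
    have h3 : u ^ (j * q) = u ^ j := Units.ext (by
      have := congrArg Units.val hj
      rw [Units.val_pow_eq_pow_val, Units.val_mk0] at this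
      rw [pow_mul, Units.val_pow_eq_pow_val, Units.val_pow_eq_pow_val, this, ← K.bar_apply, hκ])
    have h4 : u ^ (j * (q - 1)) = 1 := by
      refine mul_right_cancel (b := u ^ j) ?_
      rw [← pow_add, one_mul, ← Nat.mul_succ, Nat.succ_eq_add_one, Nat.sub_add_cancel (by omega), h3]
    have h5 := orderOf_dvd_of_pow_eq_one h4
    rw [hu, show q ^ 2 - 1 = (q + 1) * (q - 1) by rw [← Nat.sq_sub_sq, one_pow]] at h5
    exact Nat.dvd_of_mul_dvd_mul_right (by omega) h5
  obtain ⟨m, rfl⟩ := hdvd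
  have key : ∀ k : ℕ, (fun i => (K.bar (u : F) * c i) ^ k * γ i) ∈ Pz B H := by
    intro k
    induction k with
    | zero => simpa using hγ
    | succ k ih =>
      convert diag_step B ha u.ne_zero hA ih using 1
      funext i
      ring
  convert key ((q + 1) * m) using 1
  funext i
  rw [Pi.smul_apply, smul_eq_mul, pow_mul, pow_succ _ q, ← K.bar_apply, map_mul, K.bar_bar,
    show κ = ((u : F) ^ ((q + 1) * m)) by
      have := congrArg Units.val hj
      rw [Units.val_pow_eq_pow_val, Units.val_mk0] at this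
      exact this.symm,
    pow_mul, pow_succ _ q, ← K.bar_apply]
  congr 2
  linear_combination -((u : F) * K.bar (u : F)) * hc i

theorem exists_fixed {η : F} (hη : K.bar η ≠ η) (v : F) :
    ∃ a b : F, K.bar a = a ∧ K.bar b = b ∧ v = a + b * η := by
  have h : η - K.bar η ≠ 0 := sub_ne_zero.2 hη.symm
  have h' : K.bar η - η ≠ 0 := sub_ne_zero.2 hη
  set b := (v - K.bar v) / (η - K.bar η) with hb
  have hbf : K.bar b = b := by
    rw [hb, map_div₀, map_sub, map_sub, K.bar_bar, K.bar_bar, div_eq_div_iff h' h]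
    ring
  refine ⟨v - b * η, b, ?_, hbf, (sub_add_cancel v _).symm⟩
  rw [map_sub, map_mul, hbf]
  have : b * (η - K.bar η) = v - K.bar v := div_mul_cancel₀ _ h
  linear_combination this

/-- One parameter on a frame line gives the whole line. -/
theorem full_of_single {a : SU (N + 2) F q} (ha : a ∈ H) {u : Fˣ} (hu : orderOf u = q ^ 2 - 1)
    {c : Fin N → F} (hc : ∀ i, c i * K.bar (c i) = 1) (hA : Diag B a u c) {i : Fin N}
    (hη : K.bar (K.bar (u : F) * c i) ≠ K.bar (u : F) * c i) {x : F} (hx : x ≠ 0)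
    (h : Pi.single i x ∈ Pz B H) : Full B H i := by
  intro δ
  obtain ⟨r, s, hr, hs, e⟩ := exists_fixed (K := K) hη (δ / x)
  rw [div_eq_iff hx] at e
  convert add_mem (fixed_step B ha hu hc hA hr h)
    (fixed_step B ha hu hc hA hs (diag_step B ha u.ne_zero hA h)) using 1
  funext j
  by_cases hj : j = i
  · subst hj; simp [e]; ring
  · simp [hj]

/-- Separating two frame lines. -/
theorem single_of_pair {a : SU (N + 2) F q} (ha : a ∈ H) {u : Fˣ} (hu : orderOf u = q ^ 2 - 1)
    {c : Fin N → F} (hc : ∀ i, c i * K.bar (c i) = 1) (hA : Diag B a u c) {i j : Fin N}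
    (hij : i ≠ j) {η η' : F} (hi : η = K.bar (u : F) * c i) (hj : η' = K.bar (u : F) * c j)
    {x y : F} (h : Pi.single i x + Pi.single j y ∈ Pz B H) :
    Pi.single i ((η - η') * (η - K.bar η') * x) ∈ Pz B H := by
  have h1 := diag_step B ha u.ne_zero hA h
  have h2 := diag_step B ha u.ne_zero hA h1
  have ht := fixed_step B ha hu hc hA (κ := η' + K.bar η') (by rw [map_add, K.bar_bar, add_comm]) h1
  have hn := fixed_step B ha hu hc hA (κ := η' * K.bar η') (by rw [map_mul, K.bar_bar, mul_comm]) h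
  convert add_mem (sub_mem h2 ht) hn using 1
  funext k
  by_cases hki : k = i
  · subst hki; simp [hi, Pi.single_eq_of_ne hij]; ring
  · by_cases hkj : k = j
    · subst hkj; simp [hj, Pi.single_eq_of_ne hki]; ring
    · simp [hki, hkj]

/-- Exchanging two isotropic centres. -/
theorem exists_exchange {e f : Fin (N + 2) → F} (hec : e ∈ centres K H) (hfc : f ∈ centres K H)
    (hfe : hermForm (N + 2) F q f e = 1) {c : F} (hc0 : c ≠ 0) (hc : c + K.bar c = 0) :
    ∃ g ∈ H, app g e = (-c⁻¹) • f ∧ app g f = c • e ∧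
      ∀ w, hermForm (N + 2) F q w e = 0 → hermForm (N + 2) F q w f = 0 → app g w = w := by
  have hef : hermForm (N + 2) F q e f = 1 := by rw [h_swap K f e, hfe, map_one]
  have hd : -c⁻¹ + K.bar (-c⁻¹) = 0 := by
    rw [map_neg, map_inv₀, eq_neg_of_add_eq_zero_right hc, inv_neg]; ring
  obtain ⟨g₁, h₁⟩ := exists_T K hec.1 hc
  obtain ⟨g₂, h₂⟩ := exists_T K hfc.1 hd
  refine ⟨g₁ * g₂ * g₁, mul_mem (mul_mem (hec.2 _ _ h₁) (hfc.2 _ _ h₂)) (hec.2 _ _ h₁), ?_, ?_,
    fun w we wf => ?_⟩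
  · rw [app_mul, app_mul, h₁.2.2 e, hec.1, mul_zero, zero_smul, add_zero, h₂.2.2, hef, h₁.2.2]
    simp only [h_add_left K, h_smul_left K, hec.1, hfe]
    match_scalars <;> field_simp <;> ring1
  · rw [app_mul, app_mul, h₁.2.2 f, hfe, h₂.2.2]
    simp only [h_add_left K, h_smul_left K, hfc.1, hef]
    rw [h₁.2.2]
    simp only [h_add_left K, h_smul_left K, hec.1, hfe]
    match_scalars <;> field_simp <;> ring1
  · rw [app_mul, app_mul, h₁.2.2 w, we, mul_zero, zero_smul, add_zero, h₂.2.2, wf, mul_zero,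
      zero_smul, add_zero, h₁.2.2, we, mul_zero, zero_smul, add_zero]

theorem single_self (i : Fin N) : ∑ k, (Pi.single i (1 : F) : Fin N → F) k *
    K.bar ((Pi.single i (1 : F) : Fin N → F) k) = 1 := by
  rw [Finset.sum_eq_single i (fun k _ hk => by simp [hk]) (by simp)]; simp

/-- A full frame line gives all transvections at `e`. -/
theorem all_T_of_full {i : Fin N} (h : Full B H i) :
    ∀ g c, IsT K g (ev B) c → g ∈ H :=
  all_T K (he B) (x := zv B (Pi.single i 1)) (fun γ => by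
      rw [smul_zv, ← Pi.single_smul, smul_eq_mul, mul_one]; exact h γ)
    (h 1) (by rw [show hermForm (N + 2) F q (zv B (Pi.single i 1)) (zv B (Pi.single i 1)) = _ from
      h_zv B 0 0 _ _, single_self]; exact one_ne_zero)

/-- Full parameters and a mover give the whole group. -/
theorem eq_top (hn : 2 ≤ N) (hfull : ∀ i, Full B H i) {w : SU (N + 2) F q} (hw : w ∈ H)
    (hwe : hermForm (N + 2) F q (app w (ev B)) (ev B) ≠ 0) : H = ⊤ := by
  refine eq_top_of_elations K (he B) (by omega) (by omega)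
    (all_T_of_full B (hfull ⟨0, by omega⟩)) (fun x hx => ?_) hw hwe
  obtain ⟨α, β, γ, rfl⟩ := exists_vec B x
  rw [h_ev] at hx
  subst hx
  have h1 : γ ∈ Pz B H := by
    rw [← Finset.univ_sum_single γ]; exact sum_mem fun i _ => hfull i (γ i)
  have h2 := add_mem (smul_self_mem_pars K (M := H) (he B) α) h1
  rwa [smul_ev, zv_apply, vec_add, add_zero, zero_add, zero_add] at h2

/-- The monomial element. -/
def Swap (w : SU (N + 2) F q) (π : Equiv.Perm (Fin N)) (φ : Fin N → F) : Prop :=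
  ∀ α β γ, app w (vec B α β γ) = vec B β α fun i => φ i * γ (π i)

/-- Transport a full line along the permutation, on lines where the element is monomial. -/
theorem full_step {r : SU (N + 2) F q} (hr : r ∈ H) {c : F} (hc : c ≠ 0)
    (hre : app r (ev B) = c • ev B) {π : Equiv.Perm (Fin N)} {φ : Fin N → F} {j : Fin N}
    (hφ : φ j ≠ 0) (hrz : ∀ δ : F, app r (zv B (Pi.single (π j) δ)) =
      zv B (Pi.single j (φ j * δ))) (h : Full B H (π j)) : Full B H j := by
  intro δ
  have hcb : K.bar c ≠ 0 := (map_ne_zero K.bar).2 hc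
  have h1 := pars_step B hr hc hre (h (δ / (K.bar c * φ j)))
  rw [hrz, smul_zv, ← Pi.single_smul, smul_eq_mul] at h1
  show zv B _ ∈ pars K H (he B)
  rw [mul_div, mul_div, ← mul_assoc] at h1
  rwa [mul_div_cancel_left₀ _ (mul_ne_zero hcb hφ)] at h1

theorem swap_single {π : Equiv.Perm (Fin N)} (φ : Fin N → F) (j : Fin N) (δ : F) :
    (fun i => φ i * (Pi.single (π j) δ : Fin N → F) (π i)) = Pi.single j (φ j * δ) := by
  funext i
  by_cases hi : i = j
  · subst hi; simp
  · simp [hi]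

/-- The data of the two generators. -/
structure Gens (u : Fˣ) (c φ : Fin N → F) (π : Equiv.Perm (Fin N)) (γ₀ : Fin N → F) where
  a : SU (N + 2) F q
  X : SU (N + 2) F q
  w : SU (N + 2) F q
  t : F
  hA : Diag B a u c
  hX : IsSg K X (ev B) (zv B γ₀) t
  hW : Swap B w π φ

theorem exists_gens (hN : 1 ≤ N) (u : Fˣ) {c φ : Fin N → F} (π : Equiv.Perm (Fin N)) (γ₀ : Fin N → F)
    (hc : ∀ i, c i * K.bar (c i) = 1) (hcdet : (u : F) * (K.bar (u : F))⁻¹ * ∏ i, c i = 1)
    (hφ : ∀ i, φ i * K.bar (φ i) = 1)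
    (hφdet : -((Equiv.Perm.sign π : ℤ) : F) * ∏ i, φ i = 1) : Nonempty (Gens B u c φ π γ₀) := by
  obtain ⟨a, ha⟩ := exists_diag B u.ne_zero hc hcdet
  obtain ⟨w, hw⟩ := exists_swap B π hφ hφdet
  set h := hermForm (N + 2) F q (zv B γ₀) (zv B γ₀)
  have hh : K.bar h = h := (h_swap K _ _).symm
  obtain ⟨X, hX⟩ := exists_sg K (e := ev B) (x := zv B γ₀) (t := -(B.s * h)) (by omega) (he B)
    (h_ev B 0 0 γ₀) (by
      rw [map_neg, map_mul, hh]
      linear_combination -h * B.hs)
  exact ⟨⟨a, X, w, _, ha, hX, hw⟩⟩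

variable {u : Fˣ} {c φ : Fin N → F} {π : Equiv.Perm (Fin N)} {γ₀ : Fin N → F}

/-- The commutator parameter. -/
theorem first_par (G : Gens B u c φ π γ₀) (hc : ∀ i, c i * K.bar (c i) = 1)
    (hcπ : ∀ i, c (π i) = c i) (ha : G.a ∈ H) (hb : G.X * G.w ∈ H) :
    (fun i => (1 - (u : F)⁻¹ * c i) * γ₀ i) ∈ Pz B H := by
  have hub : K.bar (u : F) ≠ 0 := (map_ne_zero K.bar).2 u.ne_zero
  have hpow : ∀ k : ℕ, ∀ α β γ, app (G.a ^ k) (vec B α β γ) =
      vec B ((u : F) ^ k * α) (((K.bar (u : F))⁻¹) ^ k * β) fun i => c i ^ k * γ i := by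
    intro k
    induction k with
    | zero => intro α β γ; rw [pow_zero, app_one]; congr 1 <;> first | simp | (funext i; simp)
    | succ k ih =>
      intro α β γ
      rw [pow_succ, app_mul, G.hA, ih]
      congr 1 <;> first | ring1 | (funext i; ring1)
  have hu2 : (u : F) ^ q = K.bar (u : F) := (K.bar_apply _).symm
  have hub2 : ((K.bar (u : F))⁻¹) ^ q = (u : F)⁻¹ := by rw [← K.bar_apply, map_inv₀, K.bar_bar]
  have hcomm : G.a ^ q * G.w * G.a = G.w := by
    refine ext_app fun x => ?_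
    obtain ⟨α, β, γ, rfl⟩ := exists_vec B x
    rw [app_mul, app_mul, G.hA, G.hW, G.hW, hpow, hu2, hub2]
    congr 1
    · rw [← mul_assoc, mul_inv_cancel₀ hub, one_mul]
    · rw [← mul_assoc, inv_mul_cancel₀ u.ne_zero, one_mul]
    · funext i
      rw [hcπ, show c i ^ q = K.bar (c i) from (K.bar_apply _).symm]
      linear_combination (φ i * γ (π i)) * hc i
  set a' := (G.a ^ q)⁻¹ with ha'
  have ha'H : a' ∈ H := inv_mem (pow_mem ha q)
  have hwa : G.w * G.a = a' * G.w := by
    rw [ha', eq_inv_mul_iff_mul_eq, ← mul_assoc, hcomm]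
  have hval : ∀ α (γ : Fin N → F), app a' (vec B α 0 γ) =
      vec B ((K.bar (u : F))⁻¹ * α) 0 fun i => c i * γ i := by
    intro α γ
    conv_lhs => rw [show vec B α 0 γ = app (G.a ^ q)
        (vec B ((K.bar (u : F))⁻¹ * α) 0 fun i => c i * γ i) by
      rw [hpow, hu2, mul_zero, ← mul_assoc, mul_inv_cancel₀ hub, one_mul]
      congr 1
      funext i
      rw [show c i ^ q = K.bar (c i) from (K.bar_apply _).symm]
      linear_combination -(γ i) * hc i]
    rw [ha', app_inv]
  have hv : G.X * (a' * G.X⁻¹ * a'⁻¹) ∈ H := by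
    have h1 : G.X * G.w * G.a * (G.X * G.w)⁻¹ * a'⁻¹ ∈ H :=
      mul_mem (mul_mem (mul_mem hb ha) (inv_mem hb)) (inv_mem ha'H)
    convert h1 using 1
    rw [mul_assoc G.X G.w G.a, hwa]
    group
  have h1 := sg_conj K (sg_inv K G.hX) a'
  rw [show app a' (ev B) = (K.bar (u : F))⁻¹ • ev B by
    rw [smul_ev, ev, hval, mul_one]; congr 1; funext i; simp] at h1
  have e1 : app a' (-zv B γ₀) = zv B fun i => -(c i * γ₀ i) := by
    rw [← map_neg (zv B), zv_apply, hval, mul_zero, zv_apply]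
    congr 1
    funext i
    simp
  rw [e1] at h1
  have h2 := sg_mul K G.hX (sg_smul K _ h1 (he B) (h_ev B 0 0 _))
  have e2 : zv B γ₀ + K.bar ((K.bar (u : F))⁻¹) • (zv B fun i => -(c i * γ₀ i)) =
      zv B fun i => (1 - (u : F)⁻¹ * c i) * γ₀ i := by
    rw [map_inv₀, K.bar_bar, smul_zv, ← map_add]
    congr 1
    funext i
    simp
    ring
  rw [e2] at h2
  exact ⟨_, hv, _, h2⟩

/-- The seeds spread along the permutation, when the elation is in the subgroup. -/
theorem top_of_seeds (hn : 2 ≤ N) (G : Gens B u c φ π γ₀) (hφ : ∀ i, φ i ≠ 0)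
    (hb : G.X * G.w ∈ H) {i₀ : Fin N} (hi₀ : Full B H i₀) (hγ : γ₀ ∈ Pz B H)
    (hcov : (∀ j, Full B H (π j) → Full B H j) → ∀ j, Full B H j) : H = ⊤ := by
  have hT := all_T_of_full B hi₀
  have hXH : G.X ∈ H := sg_mem K (he B) hT G.hX hγ
  have hwH : G.w ∈ H := by
    have := mul_mem (inv_mem hXH) hb
    rwa [inv_mul_cancel_left] at this
  have hwe : app G.w (ev B) = fv B := by
    rw [ev, fv, G.hW]; congr 1; funext i; simp
  have hfc : (fv B : Fin (N + 2) → F) ∈ centres K H := hwe ▸ app_mem_centres K hwH ⟨he B, hT⟩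
  have hfe : hermForm (N + 2) F q (fv B) (ev B) = 1 := h_ev B 0 1 0
  obtain ⟨k, hk0, hk⟩ := exists_skew K
  obtain ⟨s, hsH, hse, hsf, hsw⟩ := exists_exchange ⟨he B, hT⟩ hfc hfe hk0 hk
  refine eq_top B hn (hcov fun j hj => full_step B (mul_mem hsH hwH) hk0
    (by rw [app_mul, hwe, hsf]) (hφ j) (fun δ => ?_) hj) hwH (by
      rw [hwe, hfe]; exact one_ne_zero)
  rw [app_mul, zv_apply, G.hW, swap_single, hsw _ (h_ev B 0 0 _) (h_fv B 0 0 _), zv_apply]

end CfsgLib.TwoGen.Unit
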