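import Cfsg.Agent.Lib.Classical.TwoGen.Unitary

set_option autoImplicit false

/-!
The three cases of the two generation of `SU_n(q)`, `n ≥ 4`.
-/

namespace CfsgLib.TwoGen.Unit

open Matrix Cfsg CfsgLib.Classical.Herm CfsgLib.Classical.Elation
open CfsgLib.ClassicalAut (Unitary.Conj Unitary.herm_apply)

variable {F : Type*} [Field F] [Finite F] {q : ℕ} {K : Unitary.Conj F q} (B : Pair K)

include K in
theorem pow_ne {u : Fˣ} (hu : orderOf u = q ^ 2 - 1) {i j : ℕ} (hij : i < j)
    (h : j - i < q ^ 2 - 1) : (u : F) ^ j ≠ (u : F) ^ i := by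
  intro e
  have h1 : u ^ (j - i) = 1 := by
    refine mul_right_cancel (b := u ^ i) ?_
    rw [← pow_add, one_mul, Nat.sub_add_cancel hij.le]
    exact Units.ext (by rw [Units.val_pow_eq_pow_val, Units.val_pow_eq_pow_val, e])
  have := Nat.le_of_dvd (by omega) (orderOf_dvd_of_pow_eq_one h1)
  omega

theorem bar_ne_self {u : Fˣ} (hu : orderOf u = q ^ 2 - 1) : K.bar (u : F) ≠ u := by
  have := K.two_le
  have h := pow_ne (K := K) hu (i := 1) (j := q) (by omega) (by nlinarith [Nat.sub_add_cancel (show 1 ≤ q ^ 2 by nlinarith), Nat.sub_le q 1])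
  rwa [pow_one, ← K.bar_apply] at h

/-- The permutation fixing `0` and rotating the rest. -/
def rot (m : ℕ) : Equiv.Perm (Fin (m + 2)) :=
  Equiv.Perm.decomposeFin.symm (0, finRotate (m + 1))

theorem rot_zero (m : ℕ) : rot m 0 = 0 := Equiv.Perm.decomposeFin_symm_apply_zero _ _

theorem rot_succ (m : ℕ) (i : Fin (m + 1)) : rot m i.succ = (finRotate (m + 1) i).succ := by
  rw [rot, Equiv.Perm.decomposeFin_symm_apply_succ, Equiv.swap_self, Equiv.refl_apply]

theorem cover {m : ℕ} {P : Fin (m + 2) → Prop} (hl : P (Fin.last m).succ)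
    (hs : ∀ j, j ≠ 0 → P (rot m j) → P j) : ∀ j, j ≠ 0 → P j := by
  intro j hj
  obtain ⟨i, rfl⟩ := Fin.exists_succ_eq.2 hj
  induction i using Fin.reverseInduction with
  | last => exact hl
  | cast i ih =>
    refine hs _ (Fin.succ_ne_zero _) ?_
    rw [rot_succ, show finRotate (m + 1) i.castSucc = i.succ from
      Fin.ext (coe_finRotate_of_ne_last (Fin.castSucc_lt_last i).ne)]
    exact ih (Fin.succ_ne_zero _)

theorem c_norm {N : ℕ} {u : Fˣ} (i₀ : Fin N) (i : Fin N) :
    (Pi.mulSingle i₀ (K.bar (u : F) / u) : Fin N → F) i *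
      K.bar ((Pi.mulSingle i₀ (K.bar (u : F) / u) : Fin N → F) i) = 1 := by
  have h := (map_ne_zero K.bar).2 u.ne_zero
  rcases eq_or_ne i i₀ with rfl | hi
  · rw [Pi.mulSingle_eq_same, map_div₀, K.bar_bar, div_mul_div_comm, mul_comm (K.bar (u : F)),
      div_self (mul_ne_zero u.ne_zero h)]
  · rw [Pi.mulSingle_eq_of_ne hi, map_one, one_mul]

theorem c_det {N : ℕ} {u : Fˣ} (i₀ : Fin N) :
    (u : F) * (K.bar (u : F))⁻¹ * ∏ i, (Pi.mulSingle i₀ (K.bar (u : F) / u) : Fin N → F) i = 1 := by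
  have h := (map_ne_zero K.bar).2 u.ne_zero
  rw [Fintype.prod_pi_mulSingle']
  field_simp

theorem c_rot {m : ℕ} (x : F) (i : Fin (m + 2)) :
    (Pi.mulSingle (0 : Fin (m + 2)) x : Fin (m + 2) → F) (rot m i) =
      (Pi.mulSingle (0 : Fin (m + 2)) x : Fin (m + 2) → F) i := by
  rcases eq_or_ne i 0 with rfl | hi
  · rw [rot_zero]
  · rw [Pi.mulSingle_eq_of_ne hi, Pi.mulSingle_eq_of_ne]
    rw [ne_eq, ← Equiv.eq_symm_apply, show (rot m).symm 0 = 0 by
      rw [Equiv.symm_apply_eq, rot_zero]]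
    exact hi

include B in
/-- The generic case. -/
theorem two_gen_big (m : ℕ) (hq : 3 ≤ q) :
    ∃ a b : SU (m + 2 + 2) F q, Subgroup.closure ({a, b} : Set _) = ⊤ := by
  obtain ⟨u, hu⟩ := K.exists_gen
  set ub := K.bar (u : F) with hub_def
  set c : Fin (m + 2) → F := Pi.mulSingle 0 (ub / u) with hc_def
  set σ : F := -((Equiv.Perm.sign (rot m) : ℤ) : F) with hσ
  have hσ' : σ = 1 ∨ σ = -1 := by
    rcases Int.units_eq_one_or (Equiv.Perm.sign (rot m)) with h | h <;> simp [hσ, h]
  set φ : Fin (m + 2) → F := Pi.mulSingle 0 σ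
  have hφ : ∀ i, φ i * K.bar (φ i) = 1 := fun i => by
    rcases eq_or_ne i 0 with rfl | hi
    · rcases hσ' with h | h <;> simp [φ, h]
    · simp [φ, hi]
  have hφdet : σ * ∏ i, φ i = 1 := by
    rw [Fintype.prod_pi_mulSingle']; rcases hσ' with h | h <;> simp [h]
  have hc : ∀ i, c i * K.bar (c i) = 1 := c_norm 0
  set l : Fin (m + 2) := (Fin.last m).succ
  obtain ⟨G⟩ := exists_gens B (by omega) u (rot m)
    ((Pi.single 0 1 : Fin (m + 2) → F) + Pi.single l 1) hc (c_det 0) hφ hφdet
  refine ⟨G.a, G.X * G.w, ?_⟩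
  set H := Subgroup.closure ({G.a, G.X * G.w} : Set _)
  have ha : G.a ∈ H := Subgroup.subset_closure (by simp)
  have hb : G.X * G.w ∈ H := Subgroup.subset_closure (by simp)
  have hu0 := u.ne_zero
  have hub0 : ub ≠ 0 := (map_ne_zero K.bar).2 hu0
  have hq2 : 3 * q ≤ q ^ 2 := by rw [sq]; exact Nat.mul_le_mul_right q hq
  have n1 : ub ≠ u := bar_ne_self hu
  have n2 : ub ^ 2 ≠ (u : F) ^ 2 := by
    rw [hub_def, K.bar_apply, ← pow_mul]; exact pow_ne (K := K) hu (by omega) (by omega)
  have n3 : ub ^ 3 ≠ (u : F) ^ 3 := by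
    rw [hub_def, K.bar_apply, ← pow_mul]; exact pow_ne (K := K) hu (by omega) (by omega)
  have n4 : ub ≠ (u : F) ^ 2 := by
    rw [hub_def, K.bar_apply]; exact pow_ne (K := K) hu (by omega) (by omega)
  have hl0 : l ≠ 0 := Fin.succ_ne_zero _
  have hc0 : c 0 = ub / u := Pi.mulSingle_eq_same _ _
  have hcl : c l = 1 := Pi.mulSingle_eq_of_ne hl0 _
  have hubb : K.bar ub = u := K.bar_bar _
  have hη0 : K.bar (ub * c 0) ≠ ub * c 0 := by
    rw [hc0, map_mul, map_div₀, hubb]
    intro e
    refine n3 ?_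
    field_simp at e
    linear_combination -e
  have hηl : K.bar (ub * c l) ≠ ub * c l := by rw [hcl, mul_one, hubb]; exact n1.symm
  set d₀ := (1 - (u : F)⁻¹ * c 0)
  set dl := (1 - (u : F)⁻¹ * c l)
  have hd0 : d₀ ≠ 0 := sub_ne_zero.2 fun e => n4 (by
    rw [hc0] at e; field_simp at e; linear_combination -e)
  have hdl : dl ≠ 0 := sub_ne_zero.2 fun e => n1 (by
    rw [hcl, mul_one] at e
    have h1 : (u : F) = 1 := inv_eq_one.1 e.symm
    rw [hub_def, h1, map_one])
  have hp : Pi.single 0 d₀ + Pi.single l dl ∈ Pz B H := by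
    convert first_par B G hc (c_rot _) ha hb using 1
    funext i
    rcases eq_or_ne i 0 with rfl | hi
    · simp [d₀, hl0.symm]
    · rcases eq_or_ne i l with rfl | hi'
      · simp [dl, hl0]
      · simp [hi, hi']
  have e1 : (ub * c 0 - ub * c l) * (ub * c 0 - K.bar (ub * c l)) ≠ 0 := by
    rw [hc0, hcl, mul_one, hubb]
    refine mul_ne_zero (sub_ne_zero.2 fun e => n1 ?_) (sub_ne_zero.2 fun e => n2 ?_)
    · field_simp at e; linear_combination e
    · field_simp at e; linear_combination e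
  have e2 : (ub * c l - ub * c 0) * (ub * c l - K.bar (ub * c 0)) ≠ 0 := by
    rw [hc0, hcl, mul_one, map_mul, map_div₀, hubb]
    refine mul_ne_zero (sub_ne_zero.2 fun e => n1 ?_) (sub_ne_zero.2 fun e => n2 ?_)
    · field_simp at e; linear_combination -e
    · field_simp at e; linear_combination e
  have f0 : Full B H 0 := full_of_single B ha hu hc G.hA hη0 (mul_ne_zero e1 hd0)
    (single_of_pair B ha hu hc G.hA hl0.symm rfl rfl hp)
  have fl : Full B H l := full_of_single B ha hu hc G.hA hηl (mul_ne_zero e2 hdl)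
    (single_of_pair B ha hu hc G.hA hl0 rfl rfl (by convert hp using 1; exact add_comm _ _))
  refine top_of_seeds B (by omega) G (fun i h => by simpa [h] using hφ i) hb f0
    (add_mem (f0 1) (fl 1)) fun hs j => ?_
  rcases eq_or_ne j 0 with rfl | hj
  · exact f0
  · exact cover fl (fun i _ => hs i) j hj

include B in
theorem two_gen_four (hq : q = 2) :
    ∃ a b : SU (2 + 2) F q, Subgroup.closure ({a, b} : Set _) = ⊤ := by
  obtain ⟨u, hu⟩ := K.exists_gen
  have hu2 : K.bar (u : F) = (u : F) ^ 2 := by rw [K.bar_apply, hq]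
  have hu3 : (u : F) ^ 3 = 1 := by
    rw [show 3 = orderOf u by rw [hu, hq]; rfl, ← Units.val_pow_eq_pow_val, pow_orderOf_eq_one,
      Units.val_one]
  have h2 : (2 : F) = 0 := two_eq_zero K hq
  set c : Fin 2 → F := fun _ => (u : F) ^ 2
  have hc : ∀ i, c i * K.bar (c i) = 1 := fun _ => by
    simp only [c, map_pow, hu2]; linear_combination ((u : F) ^ 3 + 1) * hu3
  have hub0 : ((u : F) ^ 2) ≠ 0 := pow_ne_zero _ u.ne_zero
  obtain ⟨G⟩ := exists_gens B (by omega) u (Equiv.swap (0 : Fin 2) 1) (φ := 1)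
    (Pi.single 0 1 : Fin 2 → F) hc
    (by simp only [c, Fin.prod_univ_two, hu2]; field_simp; linear_combination hu3)
    (fun _ => by simp) (by simp)
  refine ⟨G.a, G.X * G.w, ?_⟩
  set H := Subgroup.closure ({G.a, G.X * G.w} : Set _)
  have ha : G.a ∈ H := Subgroup.subset_closure (by simp)
  have hb : G.X * G.w ∈ H := Subgroup.subset_closure (by simp)
  have hη : K.bar (K.bar (u : F) * c 0) ≠ K.bar (u : F) * c 0 := by
    rw [show K.bar (u : F) * c 0 = u by rw [hu2]; linear_combination (u : F) * hu3]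
    exact bar_ne_self hu
  have hd : (1 - (u : F)⁻¹ * c 0) ≠ 0 := sub_ne_zero.2 fun e => bar_ne_self (K := K) hu (by
    simp only [c] at e
    field_simp at e
    rw [hu2]; linear_combination ((u : F) - (1 : F)) * 0 - e * (u : F))
  have f0 : Full B H 0 := full_of_single B ha hu hc G.hA hη hd (by
    convert first_par B G hc (fun _ => rfl) ha hb using 1
    funext i; fin_cases i <;> simp)
  refine top_of_seeds B le_rfl G (fun _ => one_ne_zero) hb f0 (f0 1) fun hs j => ?_
  fin_cases j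
  · exact f0
  · exact hs _ (by simpa using f0)

include B in
theorem two_gen_two_big (m : ℕ) (hq : q = 2) :
    ∃ a b : SU (m + 3 + 2) F q, Subgroup.closure ({a, b} : Set _) = ⊤ := by
  obtain ⟨u, hu⟩ := K.exists_gen
  have h2 : (2 : F) = 0 := two_eq_zero K hq
  have hu2 : K.bar (u : F) = (u : F) ^ 2 := by rw [K.bar_apply, hq]
  have hu0 := u.ne_zero
  have hu1 : K.bar (u : F) ≠ u := bar_ne_self hu
  set c : Fin (m + 3) → F := Pi.mulSingle 0 (K.bar (u : F) / u) with hc_def
  have hc : ∀ i, c i * K.bar (c i) = 1 := c_norm 0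
  set l : Fin (m + 3) := (Fin.last (m + 1)).succ
  have hl0 : l ≠ 0 := Fin.succ_ne_zero _
  obtain ⟨G⟩ := exists_gens B (by omega) u (rot (m + 1)) (φ := 1)
    ((Pi.single 0 1 : Fin (m + 3) → F) + Pi.single l 1) hc (c_det 0) (fun _ => by simp)
    (by rcases Int.units_eq_one_or (Equiv.Perm.sign (rot (m + 1))) with h | h <;>
      simp [h] <;> linear_combination -h2)
  refine ⟨G.a, G.X * G.w, ?_⟩
  set H := Subgroup.closure ({G.a, G.X * G.w} : Set _)
  have ha : G.a ∈ H := Subgroup.subset_closure (by simp)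
  have hb : G.X * G.w ∈ H := Subgroup.subset_closure (by simp)
  have hcl : c l = 1 := Pi.mulSingle_eq_of_ne hl0 _
  have fl : Full B H l := full_of_single B ha hu hc G.hA
    (by rw [hcl, mul_one, K.bar_bar]; exact hu1.symm)
    (x := 1 - (u : F)⁻¹) (sub_ne_zero.2 fun e => hu1 (by rw [inv_eq_one.1 e.symm, map_one]))
    (by
      convert first_par B G hc (c_rot _) ha hb using 1
      funext i
      rcases eq_or_ne i 0 with rfl | hi
      · simp [hc_def, hl0.symm, hu2]; field_simp; ring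
      · rcases eq_or_ne i l with rfl | hi'
        · simp [hcl, hl0]
        · simp [hi, hi'])
  have hT := all_T_of_full B fl
  -- cancel the last coordinate of the elation
  set zl := zv B (Pi.single l (1 : F) : Fin (m + 3) → F)
  obtain ⟨g₁, hg₁⟩ := exists_sg K (e := ev B) (x := zl) (t := -(B.s * hermForm (m + 3 + 2) F q zl zl))
    (by omega) (he B) (h_ev B 0 0 _) (by
      rw [map_neg, map_mul, ← h_swap K zl zl]
      linear_combination -(hermForm (m + 3 + 2) F q zl zl) * B.hs)
  have hg₁H : g₁ ∈ H := sg_mem K (he B) hT hg₁ (fl 1)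
  set z₀ := zv B (Pi.single 0 (1 : F) : Fin (m + 3) → F)
  set Y := g₁⁻¹ * G.X
  obtain ⟨t, hY⟩ : ∃ t, IsSg K Y (ev B) z₀ t := by
    have h := sg_mul K (sg_inv K hg₁) G.hX
    have e : -zl + zv B ((Pi.single 0 1 : Fin (m + 3) → F) + Pi.single l 1) = z₀ := by
      rw [map_add]; simp only [zl, z₀]; abel
    rw [e] at h
    exact ⟨_, h⟩
  set b' := Y * G.w
  have hb'H : b' ∈ H := by
    rw [show b' = g₁⁻¹ * (G.X * G.w) from mul_assoc _ _ _]; exact mul_mem (inv_mem hg₁H) hb
  have hwv : ∀ α β γ, app G.w (vec B α β γ) = vec B β α fun i => γ (rot (m + 1) i) := fun α β γ => by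
    rw [G.hW]; simp
  have hYv : ∀ α β γ, app Y (vec B α β γ) =
      vec B (α - γ 0 + t * β) β (γ + Pi.single 0 β) := fun α β γ => by
    rw [app_eq K hY, h_ev, h_zv, smul_zv, smul_ev, smul_ev, zv_apply, vec_add, sub_eq_add_neg,
      ← neg_one_smul F (vec B _ 0 0), vec_smul, vec_add, vec_add]
    congr 1
    · rw [Finset.sum_eq_single (0 : Fin (m + 3)) (fun k _ hk => by simp [hk]) (by simp)]; simp; ring
    · simp
    · rw [← Pi.single_smul, smul_eq_mul, mul_one]; simp
  have htt : 1 + t + K.bar t = 0 := by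
    have := hY.2.2.1
    rwa [show z₀ = vec B 0 0 (Pi.single 0 1) from rfl, h_vec, single_self, zero_mul,
      zero_add, zero_add] at this
  set f' : Fin (m + 3 + 2) → F := vec B t 1 (Pi.single 0 1)
  have hb'e : app b' (ev B) = f' := by
    rw [app_mul, ev, hwv, hYv]; congr 1 <;> first | (simp; done) | (funext i; simp)
  have hf'c : f' ∈ centres K H := hb'e ▸ app_mem_centres K hb'H ⟨he B, hT⟩
  have hf'e : hermForm (m + 3 + 2) F q f' (ev B) = 1 := h_ev B _ _ _
  have hk : (1 : F) + K.bar 1 = 0 := by rw [map_one]; linear_combination h2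
  have hneg : (-(1 : F)⁻¹) = 1 := by rw [inv_one]; linear_combination -h2
  obtain ⟨s, hsH, hse, hsf, hsw⟩ := exists_exchange ⟨he B, hT⟩ hf'c hf'e one_ne_zero hk
  rw [hneg, one_smul] at hse
  rw [one_smul] at hsf
  have hr : app (s * b') (ev B) = (1 : F) • ev B := by rw [app_mul, hb'e, hsf, one_smul]
  have hrot : ∀ i, i ≠ 0 → rot (m + 1) i ≠ 0 := fun i hi h => hi (by
    rw [← rot_zero (m + 1)] at h; exact (rot (m + 1)).injective h)
  have fne : ∀ j, j ≠ 0 → Full B H j := cover fl fun j hj hfj => by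
    refine full_step B (mul_mem hsH hb'H) one_ne_zero hr (φ := 1) one_ne_zero (fun δ => ?_) hfj
    rw [app_mul, app_mul, zv_apply, hwv, hYv]
    have e := swap_single (π := rot (m + 1)) (1 : Fin (m + 3) → F) j δ
    simp only [Pi.one_apply, one_mul] at e
    rw [e, rot_zero, Pi.single_eq_of_ne (hrot j hj).symm, sub_zero, mul_zero, add_zero, Pi.single_zero, add_zero,
      Pi.one_apply, one_mul, zv_apply]
    refine hsw _ (h_ev B 0 0 _) ?_
    rw [h_vec, Finset.sum_eq_single (0 : Fin (m + 3)) (fun k _ hk => by simp [hk]) (by simp)]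
    simp [hj.symm]
  -- the point `f` is a centre
  have hfc : (fv B : Fin (m + 3 + 2) → F) ∈ centres K H := by
    obtain ⟨g, hg⟩ := exists_T K (he (N := m + 3) B) hk
    have h1 := app_mem_centres K (mul_mem (hT g 1 hg) (mul_mem hsH hb'H)) hf'c
    have e1 : app b' f' = t • f' + ((vec B (-1) 0 (Pi.single 0 1) : Fin (m + 3 + 2) → F) + ev B) := by
      rw [app_mul, hwv, hYv, ev, vec_smul, vec_add, vec_add]
      congr 1
      · simp [rot_zero]
      · simp
      · funext i
        by_cases hi : i = 0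
        · subst hi; simp [rot_zero]; ring
        · simp [hi, hrot i hi]
    have e2 : app s (app b' f') = t • ev B + ((vec B (-1) 0 (Pi.single 0 1)) + f') := by
      rw [e1, app_add, app_smul, hsf, app_add, hse, hsw _ (h_ev B _ _ _) (by
        rw [h_vec, single_self]; simp)]
    have e3 : app (g * (s * b')) f' = fv B := by
      rw [app_mul, app_mul, e2, hg.2.2]
      simp only [h_add_left K, h_smul_left K, h_ev, he B, hf'e]
      rw [smul_ev, smul_ev, fv, vec_add, vec_add, vec_add]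
      congr 1
      · simp; linear_combination t * h2
      · simp
      · funext i
        by_cases hi : i = 0
        · subst hi; simp; linear_combination h2
        · simp [hi]
    rwa [e3] at h1
  -- elations at `f` and `f'` reach the coordinate `0`
  set i₁ : Fin (m + 3) := l
  set i₂ : Fin (m + 3) := Fin.succ 0
  have h12 : i₁ ≠ i₂ := by simp [i₁, l, i₂, Fin.ext_iff]
  obtain ⟨κ, hκ⟩ := K.exists_norm (-1) (by rw [map_neg, map_one])
  set γx : Fin (m + 3) → F := Pi.single i₁ 1 + Pi.single i₂ κ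
  have hx0 : γx 0 = 0 := by simp [γx, hl0.symm, i₁, i₂, (Fin.succ_ne_zero (0 : Fin (m + 2))).symm]
  have hxp : ∀ δ : F, δ • γx ∈ Pz B H := fun δ => by
    rw [smul_add, ← Pi.single_smul, ← Pi.single_smul]
    exact add_mem (fne _ hl0 _) (fne _ (Fin.succ_ne_zero _) _)
  have hxz : hermForm (m + 3 + 2) F q (zv B γx) (zv B γx) = 0 := by
    rw [zv_apply, h_vec, Finset.sum_eq_add i₁ i₂ h12 (fun k _ hk => by simp [γx, hk.1, hk.2])
      (by simp) (by simp)]
    simp [γx, h12, h12.symm]
    linear_combination hκ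
  have elat : ∀ (v : Fin (m + 3 + 2) → F) (δ : F), v ∈ centres K H →
      hermForm (m + 3 + 2) F q v (ev B) = 1 → hermForm (m + 3 + 2) F q (zv B γx) v = 0 →
      ∀ g, IsSg K g v (δ • zv B γx) 0 → g ∈ H := by
    intro v δ hv hve hxv g hg
    obtain ⟨p, hpH, hpe, -, hpw⟩ := exists_exchange ⟨he B, hT⟩ hv hve one_ne_zero hk
    rw [hneg, one_smul] at hpe
    have hxe : hermForm (m + 3 + 2) F q (δ • zv B γx) (ev B) = 0 := by
      rw [h_smul_left K, show hermForm (m + 3 + 2) F q (zv B γx) (ev B) = 0 from h_ev B 0 0 γx, mul_zero]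
    obtain ⟨g₀, hg₀⟩ := exists_sg K (e := ev B) (x := δ • zv B γx) (t := (0 : F)) (by omega) (he B)
      hxe (by rw [h_smul_left K, h_smul_right K, hxz]; simp)
    have hg₀H : g₀ ∈ H := sg_mem K (he B) hT hg₀ (by
      show δ • zv B γx ∈ _; rw [smul_zv]; exact hxp δ)
    have h1 := sg_conj K hg₀ p
    rw [hpe, app_smul, hpw (zv B γx) (h_ev B 0 0 γx) hxv] at h1
    rw [sg_unique K hg h1]
    exact mul_mem (mul_mem hpH hg₀H) (inv_mem hpH)
  have hxf : hermForm (m + 3 + 2) F q (zv B γx) (fv B) = 0 := h_fv B 0 0 _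
  have hxf' : hermForm (m + 3 + 2) F q (zv B γx) f' = 0 := by
    rw [zv_apply, h_vec, Finset.sum_eq_single (0 : Fin (m + 3)) (fun k _ hk => by simp [hk]) (by simp)]
    simp [hx0]
  have hff : hermForm (m + 3 + 2) F q (fv B) (fv B) = 0 := h_fv B 0 1 0
  obtain ⟨g, hg⟩ := exists_sg K (e := f') (x := (1 : F) • zv B γx) (t := (0 : F)) (by omega) hf'c.1
    (by rw [one_smul, hxf']) (by rw [one_smul, hxz]; simp)
  obtain ⟨g', hg'⟩ := exists_sg K (e := fv B) (x := (-1 : F) • zv B γx) (t := (0 : F)) (by omega) hff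
    (by rw [h_smul_left K, hxf, mul_zero]) (by rw [h_smul_left K, h_smul_right K, hxz]; simp)
  have hgg : g' * g ∈ H := mul_mem (elat _ _ hfc (h_ev B 0 1 0) hxf g' hg')
    (elat _ _ hf'c hf'e hxf' g hg)
  have hf'e' : hermForm (m + 3 + 2) F q (ev B) f' = 1 := by rw [h_swap K f', hf'e, map_one]
  have hef : hermForm (m + 3 + 2) F q (ev B) (fv B) = 1 := h_fv B 1 0 0
  have hex : hermForm (m + 3 + 2) F q (ev B) (zv B γx) = 0 := by simp [ev, h_zv]
  have hgge : app (g' * g) (ev B) = ev B := by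
    rw [app_mul, app_eq K hg, one_smul, hf'e', hex, zero_smul, one_smul, mul_one, zero_smul, add_zero,
      sub_zero, app_eq K hg']
    simp only [h_add_left K, h_smul_right K, hef, hxf, hex, hxz]
    module
  have hg1 : app (g' * g) (zv B (Pi.single i₁ 1)) =
      vec B (-t) 0 (Pi.single i₁ 1 - Pi.single 0 1 + t • γx) := by
    have a1 : hermForm (m + 3 + 2) F q (zv B (Pi.single i₁ 1)) f' = 0 := by
      rw [zv_apply, h_vec, Finset.sum_eq_single (0 : Fin (m + 3)) (fun k _ hk => by simp [hk])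
        (by simp)]
      simp [hl0.symm, i₁]
    have a2 : hermForm (m + 3 + 2) F q (zv B (Pi.single i₁ 1)) (zv B γx) = 1 := by
      rw [zv_apply B (Pi.single i₁ 1), h_zv, Finset.sum_eq_single i₁ (fun k _ hk => by simp [hk])
        (by simp)]
      simp [γx, h12]
    have a3 : hermForm (m + 3 + 2) F q f' (fv B) = t := h_fv B _ _ _
    have a4 : hermForm (m + 3 + 2) F q f' (zv B γx) = 0 := by
      rw [h_swap K (zv B γx), hxf', map_zero]
    have a5 : hermForm (m + 3 + 2) F q (zv B (Pi.single i₁ 1)) (fv B) = 0 := h_fv B 0 0 _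
    rw [app_mul, app_eq K hg, one_smul, a1, a2, app_eq K hg']
    simp only [h_add_left K, h_sub_left K, h_smul_left K, h_smul_right K, map_neg, map_one, a1, a2,
      a3, a4, a5, mul_zero, zero_mul]
    rw [zero_smul, add_zero, one_smul, zv_apply B γx, zv_apply B (Pi.single i₁ 1)]
    simp only [f', fv, vec_smul, sub_eq_add_neg, ← neg_one_smul F (vec B _ _ _), vec_add]
    congr 1
    · ring
    · simp
    · funext i; simp
  have f0 : Full B H 0 := fun δ => by
    have h1 := pars_stab K (he B) hgg hgge (fne i₁ hl0 δ)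
    rw [show Pi.single i₁ δ = δ • (Pi.single i₁ 1 : Fin (m + 3) → F) by
      rw [← Pi.single_smul, smul_eq_mul, mul_one], ← smul_zv, app_smul, hg1, vec_smul] at h1
    have h3 := sub_mem h1 (smul_self_mem_pars K (M := H) (he B) (-(δ * t)))
    rw [smul_ev, sub_eq_add_neg, ← neg_one_smul F (vec B _ 0 0), vec_smul, vec_add] at h3
    have h4 : δ • (Pi.single i₁ 1 - Pi.single 0 1 + t • γx) ∈ Pz B H := by
      show vec B 0 0 _ ∈ pars K H (he B)
      convert h3 using 2
      · ring
      · simp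
      · simp
    convert sub_mem (add_mem (fne i₁ hl0 δ) (hxp (δ * t))) h4 using 1
    funext i
    by_cases hi : i = 0
    · subst hi; simp [hl0.symm, i₁]; ring
    · simp [hi, Pi.single_apply]; ring
  refine eq_top B (by omega) (fun i => ?_) hb'H (by rw [hb'e, hf'e]; exact one_ne_zero)
  rcases eq_or_ne i 0 with rfl | hi
  · exact f0
  · exact fne i hi

theorem two_gen {N : ℕ} (hN : 2 ≤ N) (K : Unitary.Conj F q) :
    ∃ a b : SU (N + 2) F q, Subgroup.closure ({a, b} : Set _) = ⊤ := by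
  obtain ⟨B⟩ := exists_pair K
  obtain ⟨m, rfl⟩ : ∃ m, N = m + 2 := ⟨N - 2, by omega⟩
  rcases Nat.lt_or_ge q 3 with hq | hq
  · have hq2 : q = 2 := by have := K.two_le; omega
    rcases m with _ | m
    · exact two_gen_four B hq2
    · exact two_gen_two_big B m hq2
  · exact two_gen_big B m hq

end CfsgLib.TwoGen.Unit
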