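import Cfsg.Agent.Lib.Classical.UnitaryElation

set_option autoImplicit false

/-!
A hyperbolic pair completed by an orthonormal frame, and the monomial elements of `SU` on it.
-/

namespace CfsgLib.TwoGen.Unit

open Matrix Cfsg CfsgLib.Classical.Herm
open CfsgLib.ClassicalAut (Unitary.Conj Unitary.herm_apply)

variable {F : Type*} [Field F] [Finite F] {q : ℕ}

/-- The constants of a hyperbolic pair in the plane of the first two coordinates. -/
structure Pair (K : Unitary.Conj F q) where
  c₀ : F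
  s : F
  hc : c₀ * K.bar c₀ = -1
  hs : s + K.bar s = 1

variable {K : Unitary.Conj F q} (B : Pair K) {N : ℕ}

/-- The vector `α e + β f + γ`. -/
def vec (α β : F) (γ : Fin N → F) : Fin (N + 2) → F :=
  Fin.cons (α + β * B.s) (Fin.cons (B.c₀ * (α - β * K.bar B.s)) γ)

theorem exists_pair (K : Unitary.Conj F q) : Nonempty (Pair K) := by
  obtain ⟨c, hc⟩ := K.exists_norm (-1) (by rw [map_neg, map_one])
  obtain ⟨y, hy⟩ := K.exists_trace
  refine ⟨⟨c, y / (y + K.bar y), hc, ?_⟩⟩
  rw [map_div₀, map_add, K.bar_bar, add_comm (K.bar y) y, ← add_div, div_self hy]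

theorem vec_add (α β α' β' : F) (γ γ' : Fin N → F) :
    vec B α β γ + vec B α' β' γ' = vec B (α + α') (β + β') (γ + γ') := by
  funext i
  refine Fin.cases ?_ (fun j => ?_) i
  · simp [vec]; ring
  · refine Fin.cases ?_ (fun k => ?_) j
    · simp [vec]; ring
    · simp [vec]

theorem vec_smul (a α β : F) (γ : Fin N → F) :
    a • vec B α β γ = vec B (a * α) (a * β) (a • γ) := by
  funext i
  refine Fin.cases ?_ (fun j => ?_) i
  · simp [vec]; ring
  · refine Fin.cases ?_ (fun k => ?_) j
    · simp [vec]; ring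
    · simp [vec]

theorem h_vec (α β α' β' : F) (γ γ' : Fin N → F) :
    hermForm (N + 2) F q (vec B α β γ) (vec B α' β' γ') =
      α * K.bar β' + β * K.bar α' + ∑ i, γ i * K.bar (γ' i) := by
  rw [Unitary.herm_apply K, Fin.sum_univ_succ, Fin.sum_univ_succ]
  simp only [vec, Fin.cons_zero, Fin.cons_succ, map_add, map_mul, map_sub, K.bar_bar]
  linear_combination (α * K.bar α' - α * K.bar β' * B.s - β * K.bar B.s * K.bar α' +
    β * K.bar B.s * K.bar β' * B.s) * B.hc + (α * K.bar β' + β * K.bar α') * B.hs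

/-- The coordinates `α, β, γ` of a vector. -/
theorem exists_vec (x : Fin (N + 2) → F) : ∃ α β : F, ∃ γ, x = vec B α β γ := by
  have hc0 : B.c₀ ≠ 0 := fun e => by simpa [e] using B.hc
  refine ⟨x 0 * K.bar B.s + B.s * (x (Fin.succ 0) / B.c₀), x 0 - x (Fin.succ 0) / B.c₀,
    fun i => x i.succ.succ, ?_⟩
  funext i
  refine Fin.cases ?_ (fun j => ?_) i
  · simp only [vec, Fin.cons_zero]
    linear_combination -(x 0) * B.hs
  · refine Fin.cases ?_ (fun k => ?_) j
    · simp only [vec, Fin.cons_succ, Fin.cons_zero]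
      field_simp
      linear_combination -(x (Fin.succ 0)) * B.hs
    · simp [vec]

theorem vec_inj {α β α' β' : F} {γ γ' : Fin N → F} (h : vec B α β γ = vec B α' β' γ') :
    α = α' ∧ β = β' ∧ γ = γ' := by
  have hc0 : B.c₀ ≠ 0 := fun e => by simpa [e] using B.hc
  have h0 := congrFun h 0
  have h1 := mul_left_cancel₀ hc0 (congrFun h (Fin.succ 0))
  simp only [vec, Fin.cons_zero] at h0
  have hb : β = β' := by linear_combination h0 - h1 - (β - β') * B.hs
  refine ⟨by subst hb; linear_combination h0, hb, funext fun i => ?_⟩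
  simpa [vec] using congrFun h i.succ.succ

/-- The coordinate isomorphism. -/
noncomputable def frame : ((Fin 2 ⊕ Fin N) → F) ≃ₗ[F] (Fin (N + 2) → F) :=
  LinearEquiv.ofBijective
    { toFun := fun w => vec B (w (Sum.inl 0)) (w (Sum.inl 1)) fun i => w (Sum.inr i)
      map_add' := fun w w' => (vec_add B _ _ _ _ _ _).symm
      map_smul' := fun a w => (vec_smul B a _ _ _).symm }
    ⟨fun w w' h => by
      obtain ⟨h1, h2, h3⟩ := vec_inj B h
      funext j
      rcases j with j | j
      · fin_cases j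
        · exact h1
        · exact h2
      · exact congrFun h3 j,
    fun x => by
      obtain ⟨α, β, γ, rfl⟩ := exists_vec B x
      exact ⟨Sum.elim ![α, β] γ, rfl⟩⟩

theorem frame_apply (w : (Fin 2 ⊕ Fin N) → F) :
    frame B w = vec B (w (Sum.inl 0)) (w (Sum.inl 1)) fun i => w (Sum.inr i) := rfl

theorem frame_symm (α β : F) (γ : Fin N → F) :
    (frame B).symm (vec B α β γ) = Sum.elim ![α, β] γ :=
  (frame B).symm_apply_eq.2 rfl

/-- The monomial map: permute by `σ`, then scale by `χ`. -/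
def mono (σ : Equiv.Perm (Fin 2 ⊕ Fin N)) (χ : Fin 2 ⊕ Fin N → F) :
    Matrix (Fin 2 ⊕ Fin N) (Fin 2 ⊕ Fin N) F :=
  Matrix.diagonal χ * Equiv.Perm.permMatrix F σ

omit [Finite F] in
theorem mono_mulVec (σ : Equiv.Perm (Fin 2 ⊕ Fin N)) (χ w : Fin 2 ⊕ Fin N → F) :
    mono σ χ *ᵥ w = fun j => χ j * w (σ j) := by
  rw [mono, ← mulVec_mulVec, Matrix.permMatrix_mulVec]
  funext j
  rw [mulVec_diagonal, Function.comp_apply]

/-- An isometry with monomial matrix of determinant one is in the group. -/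
theorem exists_of_mono (σ : Equiv.Perm (Fin 2 ⊕ Fin N)) (χ : Fin 2 ⊕ Fin N → F)
    (hdet : ((Equiv.Perm.sign σ : ℤ) : F) * ∏ j, χ j = 1)
    (hiso : ∀ w w', hermForm (N + 2) F q (frame B (mono σ χ *ᵥ w)) (frame B (mono σ χ *ᵥ w')) =
      hermForm (N + 2) F q (frame B w) (frame B w')) :
    ∃ g : SU (N + 2) F q, ∀ w, app g (frame B w) = frame B (mono σ χ *ᵥ w) := by
  set L : (Fin (N + 2) → F) →ₗ[F] (Fin (N + 2) → F) :=
    ((frame (N := N) B).toLinearMap) ∘ₗ (mono σ χ).toLin' ∘ₗ (frame (N := N) B).symm.toLinearMap with hL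
  have hLw : ∀ w, L (frame B w) = frame B (mono σ χ *ᵥ w) := fun w => by
    simp [hL]
  have hd : (LinearMap.toMatrix' L).det = 1 := by
    rw [LinearMap.det_toMatrix', hL, LinearMap.det_conj, LinearMap.det_toLin', mono, det_mul,
      det_diagonal, det_permutation, mul_comm]
    exact hdet
  refine ⟨⟨⟨LinearMap.toMatrix' L, hd⟩, ?_⟩, fun w => ?_⟩
  · show ∀ x y, hermForm (N + 2) F q (LinearMap.toMatrix' L *ᵥ x) (LinearMap.toMatrix' L *ᵥ y) = _
    intro x y
    obtain ⟨w, rfl⟩ := (frame B).surjective x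
    obtain ⟨w', rfl⟩ := (frame B).surjective y
    rw [LinearMap.toMatrix'_mulVec, LinearMap.toMatrix'_mulVec, hLw, hLw, hiso]
  · show LinearMap.toMatrix' L *ᵥ frame B w = _
    rw [LinearMap.toMatrix'_mulVec, hLw]

/-- A diagonal element. -/
theorem exists_diag {u : F} {c : Fin N → F} (hu : u ≠ 0) (hc : ∀ i, c i * K.bar (c i) = 1)
    (hdet : u * (K.bar u)⁻¹ * ∏ i, c i = 1) :
    ∃ g : SU (N + 2) F q, ∀ α β γ, app g (vec B α β γ) =
      vec B (u * α) ((K.bar u)⁻¹ * β) fun i => c i * γ i := by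
  have hub : K.bar u ≠ 0 := (map_ne_zero K.bar).2 hu
  obtain ⟨g, hg⟩ := exists_of_mono B 1 (Sum.elim ![u, (K.bar u)⁻¹] c)
    (by simpa [Fintype.prod_sum_type, Fin.prod_univ_two] using hdet) (fun w w' => by
      rw [frame_apply, frame_apply, frame_apply, frame_apply, h_vec, h_vec, mono_mulVec,
        mono_mulVec]
      simp only [Equiv.Perm.one_apply, Sum.elim_inl, Sum.elim_inr, Matrix.cons_val_zero,
        Matrix.cons_val_one, map_mul, map_inv₀, K.bar_bar]
      congr 1
      · field_simp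
      · exact Finset.sum_congr rfl fun i _ => by
          linear_combination (w (Sum.inr i) * K.bar (w' (Sum.inr i))) * hc i)
  refine ⟨g, fun α β γ => ?_⟩
  have h := hg (Sum.elim ![α, β] γ)
  rw [frame_apply, frame_apply, mono_mulVec] at h
  simpa using h

/-- The element exchanging `e` and `f` and permuting the frame. -/
theorem exists_swap (π : Equiv.Perm (Fin N)) {φ : Fin N → F} (hφ : ∀ i, φ i * K.bar (φ i) = 1)
    (hdet : -((Equiv.Perm.sign π : ℤ) : F) * ∏ i, φ i = 1) :
    ∃ g : SU (N + 2) F q, ∀ α β γ, app g (vec B α β γ) =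
      vec B β α fun i => φ i * γ (π i) := by
  obtain ⟨g, hg⟩ := exists_of_mono B ((Equiv.swap 0 1).sumCongr π) (Sum.elim 1 φ)
    (by
      rw [Equiv.Perm.sign_sumCongr, Equiv.Perm.sign_swap (by decide)]
      simpa [Fintype.prod_sum_type] using hdet)
    (fun w w' => by
      rw [frame_apply, frame_apply, frame_apply, frame_apply, h_vec, h_vec, mono_mulVec,
        mono_mulVec]
      simp only [Equiv.sumCongr_apply, Sum.map_inl, Sum.map_inr, Sum.elim_inl, Sum.elim_inr,
        Pi.one_apply, Equiv.swap_apply_left, Equiv.swap_apply_right, one_mul, map_mul]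
      congr 1
      · ring
      · rw [← Equiv.sum_comp π fun i => w (Sum.inr i) * K.bar (w' (Sum.inr i))]
        exact Finset.sum_congr rfl fun i _ => by
          linear_combination (w (Sum.inr (π i)) * K.bar (w' (Sum.inr (π i)))) * hφ i)
  refine ⟨g, fun α β γ => ?_⟩
  have h := hg (Sum.elim ![α, β] γ)
  rw [frame_apply, frame_apply, mono_mulVec] at h
  simpa using h

end CfsgLib.TwoGen.Unit
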